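import Cfsg.Agent.Lib.ChevStructure.RegTorusSix.Weyl

/-!
A Coxeter element of type E₆ on the basis given by the orbit of a cyclic root: its eigenfunctionals modulo
integers, their values at the roots, and its fixed vectors.
-/

set_option autoImplicit false
set_option maxRecDepth 100000
set_option linter.unusedSectionVars false

namespace Cfsg.Agent.Lib.ChevStructure.RegTorusSix

open Cfsg.Lie
open Cfsg.Agent.Lib.ChevStructure.RegTorus
open scoped Matrix

local notation "I6" => Fin chevE6.rank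

/-- the value (q⁴ − q² + 1)(q² + q + 1) -/
def m6 {R : Type*} [CommRing R] (q : R) : R := q ^ 6 + q ^ 5 - q ^ 3 + q + 1

/-- the index k -/
def ix (k : ℕ) (h : k < 6) : I6 := ⟨k, lt_of_lt_of_eq h rank_eq.symm⟩

theorem sum_six {α : Type*} [AddCommMonoid α] (u : I6 → α) :
    (∑ i, u i) = u (ix 0 (by omega)) + u (ix 1 (by omega)) + u (ix 2 (by omega)) + u (ix 3 (by omega)) +
      u (ix 4 (by omega)) + u (ix 5 (by omega)) := by
  have key : ∀ (n : ℕ) (hn : n = 6) (u : Fin n → α), (∑ i, u i) =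
      u ⟨0, by omega⟩ + u ⟨1, by omega⟩ + u ⟨2, by omega⟩ + u ⟨3, by omega⟩ + u ⟨4, by omega⟩ + u ⟨5, by omega⟩ := by
    intro n hn u; subst hn; exact Fin.sum_univ_six u
  exact key _ rank_eq u

theorem ix_cases (i : I6) : i = ix 0 (by omega) ∨ i = ix 1 (by omega) ∨ i = ix 2 (by omega) ∨
    i = ix 3 (by omega) ∨ i = ix 4 (by omega) ∨ i = ix 5 (by omega) := by
  have h : i.val < 6 := lt_of_lt_of_eq i.isLt rank_eq
  simp only [Fin.ext_iff, ix]
  omega

/-- the values of the form on the cyclic basis -/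
def gram : Matrix I6 I6 ℤ :=
  matL chevE6.rank [[2, 0, 0, 1, -1, -1], [0, 2, 0, 0, 1, -1], [0, 0, 2, 0, 0, 1], [1, 0, 0, 2, 0, 0],
    [-1, 1, 0, 0, 2, 0], [-1, -1, 1, 0, 0, 2]]

/-- three times the inverse -/
def gramAdj : Matrix I6 I6 ℤ :=
  matL chevE6.rank [[10, 2, -4, -5, 4, 8], [2, 4, -2, -1, -1, 4], [-4, -2, 4, 2, -1, -5], [-5, -1, 2, 4, -2, -4],
    [4, -1, -1, -2, 4, 2], [8, 4, -5, -4, 2, 10]]

/-- the companion matrix -/
def comp : Matrix I6 I6 ℤ :=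
  matL chevE6.rank [[0, 0, 0, 0, 0, -1], [1, 0, 0, 0, 0, -1], [0, 1, 0, 0, 0, 0], [0, 0, 1, 0, 0, 1],
    [0, 0, 0, 1, 0, 0], [0, 0, 0, 0, 1, -1]]

theorem gram_adj_mul : gramAdj * gram = Matrix.diagonal fun _ => (3 : ℤ) := by decide +kernel

theorem gram_det : gram.det = 3 := by decide +kernel

theorem amat_det : amat.det = 3 := by decide +kernel

/-- the profile as a function -/
def cval (k : ℕ) : ℤ := ([2, 0, 0, 1, -1, -1, 0] : List ℤ).getD k 0

theorem gram_eq : gram = Matrix.of fun i j : I6 => cval (if i.val ≤ j.val then j.val - i.val else i.val - j.val) := by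
  decide +kernel

theorem gram_comp : gram * comp =
    Matrix.of fun i j : I6 => cval (if i.val ≤ j.val + 1 then j.val + 1 - i.val else i.val - (j.val + 1)) := by
  decide +kernel

variable {σ : Equiv.Perm (Rt chevE6)} {y : Rt chevE6}

theorem Good.cval_eq (hy : Good σ y) : ∀ k < 7, B2 y ((σ ^ k) y) = cval k := by
  intro k hk
  cases k with
  | zero =>
    have h2 : allLt 72 (fun r => Nat.beq (bv r r) 4) = true := by decide +kernel
    have h3 := bv_eq y y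
    rw [Nat.eq_of_beq_eq_true (allLt_iff.1 h2 _ (val_lt y))] at h3
    rw [pow_zero, Equiv.Perm.one_apply]
    simp [cval] at h3 ⊢
    omega
  | succ k =>
    rw [hy.prof k (by omega)]
    simp [cval]

theorem Good.bil_eq (hy : Good σ y) (hσ : σ ∈ C.WG) {i j : ℕ} (hi : i < 7) (hj : j < 7) :
    bil amat ((mat C σ ^ i) *ᵥ C.v y) ((mat C σ ^ j) *ᵥ C.v y) = cval (if i ≤ j then j - i else i - j) := by
  rw [bil_pow_dist amat amat_symm (inv_amat hσ), v_pow C hσ]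
  refine hy.cval_eq _ ?_
  split_ifs <;> omega

theorem Good.gram_cyc (hy : Good σ y) (hσ : σ ∈ C.WG) :
    (cyc (mat C σ) (C.v y))ᵀ * amat * cyc (mat C σ) (C.v y) = gram := by
  rw [gram_eq]
  ext i j
  rw [gram_entry, Matrix.of_apply]
  exact hy.bil_eq hσ (by have := lt_of_lt_of_eq i.isLt rank_eq; omega)
    (by have := lt_of_lt_of_eq j.isLt rank_eq; omega)

/-- the cyclic basis -/
noncomputable abbrev cy (σ : Equiv.Perm (Rt chevE6)) (y : Rt chevE6) : Matrix I6 I6 ℤ := cyc (mat C σ) (C.v y)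

/-- the inverse of the cyclic basis -/
noncomputable abbrev cyi (σ : Equiv.Perm (Rt chevE6)) (y : Rt chevE6) : Matrix I6 I6 ℤ :=
  (cy σ y).det • (cy σ y).adjugate

theorem Good.cy_inv (hy : Good σ y) (hσ : σ ∈ C.WG) : cy σ y * cyi σ y = 1 ∧ cyi σ y * cy σ y = 1 := by
  have h := congrArg Matrix.det (hy.gram_cyc hσ)
  rw [Matrix.det_mul, Matrix.det_mul, Matrix.det_transpose, amat_det, gram_det] at h
  have h1 : (cy σ y).det * (cy σ y).det = 1 := by
    simp only [cy] at h ⊢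
    linarith
  exact ⟨by rw [cyi, Matrix.mul_smul, Matrix.mul_adjugate, smul_smul, h1, one_smul],
    by rw [cyi, Matrix.smul_mul, Matrix.adjugate_mul, smul_smul, h1, one_smul]⟩

theorem Good.shift (hy : Good σ y) (hσ : σ ∈ C.WG) : mat C σ * cy σ y = cy σ y * comp := by
  obtain ⟨h1, h2⟩ := hy.cy_inv hσ
  have e1 : (cy σ y)ᵀ * amat * (mat C σ * cy σ y) = (cy σ y)ᵀ * amat * (cy σ y * comp) := by
    rw [← Matrix.mul_assoc _ (cy σ y) comp, hy.gram_cyc hσ, gram_comp]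
    ext i j
    have e : ((cy σ y)ᵀ * amat * (mat C σ * cy σ y)) i j =
        bil amat ((mat C σ ^ (i : ℕ)) *ᵥ C.v y) ((mat C σ ^ ((j : ℕ) + 1)) *ᵥ C.v y) := by
      rw [Matrix.mul_assoc]
      have e3 : ∀ k, (mat C σ * cy σ y) k j = ((mat C σ ^ ((j : ℕ) + 1)) *ᵥ C.v y) k := fun k => by
        rw [pow_succ', ← Matrix.mulVec_mulVec]; rfl
      simp only [bil, dotProduct, Matrix.mulVec, Matrix.mul_apply, Matrix.transpose_apply]
      refine Finset.sum_congr rfl fun a _ => ?_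
      congr 1
      refine Finset.sum_congr rfl fun b _ => ?_
      congr 1
      exact e3 b
    rw [e, Matrix.of_apply]
    exact hy.bil_eq hσ (by have := lt_of_lt_of_eq i.isLt rank_eq; omega)
      (by have := lt_of_lt_of_eq j.isLt rank_eq; omega)
  have hA : ∀ X Y : Matrix I6 I6 ℤ, amat * X = amat * Y → X = Y := fun X Y h => by
    have := congrArg (amat.adjugate * ·) h
    simp only [← Matrix.mul_assoc, Matrix.adjugate_mul, amat_det, Matrix.smul_mul, Matrix.one_mul] at this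
    exact smul_right_injective (Matrix I6 I6 ℤ) (show (3 : ℤ) ≠ 0 by norm_num) this
  have e2 := congrArg ((cyi σ y)ᵀ * ·) e1
  simp only [← Matrix.mul_assoc, ← Matrix.transpose_mul, h1, Matrix.transpose_one, Matrix.one_mul] at e2
  exact hA _ _ (by simpa only [Matrix.mul_assoc] using e2)

section Ring

variable {R : Type*} [CommRing R]

local notation "ℤ↑" => (Int.cast : ℤ → R)

theorem map_mul' (X Y : Matrix I6 I6 ℤ) : (X * Y).map ℤ↑ = X.map ℤ↑ * Y.map ℤ↑ :=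
  Matrix.map_mul (f := Int.castRingHom R)

theorem map_one' : (1 : Matrix I6 I6 ℤ).map ℤ↑ = 1 := Matrix.map_one _ Int.cast_zero Int.cast_one

theorem comp_apply (a : I6 → R) : comp.map ℤ↑ *ᵥ a = fun i =>
    [-a (ix 5 (by omega)), a (ix 0 (by omega)) - a (ix 5 (by omega)), a (ix 1 (by omega)),
      a (ix 2 (by omega)) + a (ix 5 (by omega)), a (ix 3 (by omega)),
      a (ix 4 (by omega)) - a (ix 5 (by omega))].getD i.val 0 := by
  funext i
  rcases ix_cases i with rfl | rfl | rfl | rfl | rfl | rfl <;>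
    simp [Matrix.mulVec, dotProduct, sum_six, comp, matL, ix] <;> ring

theorem vecMul_comp (w : I6 → R) : w ᵥ* comp.map ℤ↑ = fun i =>
    [w (ix 1 (by omega)), w (ix 2 (by omega)), w (ix 3 (by omega)), w (ix 4 (by omega)), w (ix 5 (by omega)),
      -w (ix 0 (by omega)) - w (ix 1 (by omega)) + w (ix 3 (by omega)) - w (ix 5 (by omega))].getD i.val 0 := by
  funext i
  rcases ix_cases i with rfl | rfl | rfl | rfl | rfl | rfl <;>
    simp [Matrix.vecMul, dotProduct, sum_six, comp, matL, ix] <;> ring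

variable {q : ℤ}

theorem Good.eigen_cy (hσ : σ ∈ C.WG) {E : I6 → R} (hE : E ᵥ* (mat C σ).map ℤ↑ = (q : R) • E) :
    E ᵥ* (cy σ y).map ℤ↑ = fun i : I6 => (q : R) ^ i.val * ev C E y :=
  funext fun i => vecMul_cyc_eigen hE i

/-- An eigenfunctional is determined by its value at the cyclic root, which is killed by the value of the
characteristic polynomial. -/
theorem Good.eigen (hy : Good σ y) (hσ : σ ∈ C.WG) {E : I6 → R}
    (hE : E ᵥ* (mat C σ).map ℤ↑ = (q : R) • E) :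
    m6 (q : R) * ev C E y = 0 ∧ E = (fun i : I6 => (q : R) ^ i.val * ev C E y) ᵥ* (cyi σ y).map ℤ↑ := by
  obtain ⟨h1, h2⟩ := hy.cy_inv hσ
  have hw := Good.eigen_cy (y := y) hσ hE
  constructor
  · have e : E ᵥ* (mat C σ * cy σ y).map ℤ↑ = E ᵥ* (cy σ y * comp).map ℤ↑ := by rw [hy.shift hσ]
    rw [map_mul', map_mul', ← Matrix.vecMul_vecMul, ← Matrix.vecMul_vecMul, hE, Matrix.smul_vecMul, hw,
      vecMul_comp] at e
    have e5 := congrFun e (ix 5 (by omega))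
    simp [ix] at e5
    simp only [m6]
    linear_combination e5
  · rw [← hw, Matrix.vecMul_vecMul, ← map_mul', h1, map_one', Matrix.vecMul_one]

/-- Eigenfunctionals with given value. -/
theorem Good.eigen_exists (hy : Good σ y) (hσ : σ ∈ C.WG) {u : R} (hu : m6 (q : R) * u = 0) :
    ∃ E : I6 → R, E ᵥ* (mat C σ).map ℤ↑ = (q : R) • E ∧ ev C E y = u := by
  obtain ⟨h1, h2⟩ := hy.cy_inv hσ
  set w : I6 → R := fun i => (q : R) ^ i.val * u with hw
  refine ⟨w ᵥ* (cyi σ y).map ℤ↑, ?_, ?_⟩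
  · have e : mat C σ = cy σ y * comp * cyi σ y := by rw [← hy.shift hσ, Matrix.mul_assoc, h1, Matrix.mul_one]
    rw [Matrix.vecMul_vecMul, ← map_mul', e, ← Matrix.mul_assoc, ← Matrix.mul_assoc, h2, Matrix.one_mul, map_mul',
      ← Matrix.vecMul_vecMul, ← Matrix.smul_vecMul]
    congr 1
    rw [vecMul_comp]
    funext i
    simp only [m6] at hu
    rcases ix_cases i with rfl | rfl | rfl | rfl | rfl | rfl <;> simp [hw, ix] <;> first | ring1 | linear_combination -hu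
  · have e1 : (w ᵥ* (cyi σ y).map ℤ↑) ᵥ* (cy σ y).map ℤ↑ = w := by
      rw [Matrix.vecMul_vecMul, ← map_mul', h2, map_one', Matrix.vecMul_one]
    have e2 := congrFun e1 (ix 0 (by omega))
    simp only [hw, ix, pow_zero, one_mul] at e2
    rw [← e2]
    show _ = _ ⬝ᵥ fun k => (((mat C σ ^ 0) *ᵥ C.v y) k : R)
    rw [pow_zero, Matrix.one_mulVec]
    rfl

/-- A vector fixed by q times a Coxeter element is killed by the value of the characteristic polynomial. -/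
theorem Good.fixed_kill (hy : Good σ y) (hσ : σ ∈ C.WG) {v : I6 → R}
    (hv : (q : R) • ((mat C σ).map ℤ↑ *ᵥ v) = v) : m6 (q : R) • v = 0 := by
  obtain ⟨h1, h2⟩ := hy.cy_inv hσ
  set a := (cyi σ y).map ℤ↑ *ᵥ v with ha
  have hva : v = (cy σ y).map ℤ↑ *ᵥ a := by rw [ha, Matrix.mulVec_mulVec, ← map_mul', h1, map_one', Matrix.one_mulVec]
  have hc : (q : R) • (comp.map ℤ↑ *ᵥ a) = a := by
    have e : comp = cyi σ y * (mat C σ * cy σ y) := by
      rw [hy.shift hσ, ← Matrix.mul_assoc, h2, Matrix.one_mul]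
    rw [e, map_mul', map_mul', ← Matrix.mulVec_mulVec, ← Matrix.mulVec_mulVec, ← hva, ← Matrix.mulVec_smul, hv]
  rw [comp_apply] at hc
  have c0 := congrFun hc (ix 0 (by omega))
  have c1 := congrFun hc (ix 1 (by omega))
  have c2 := congrFun hc (ix 2 (by omega))
  have c3 := congrFun hc (ix 3 (by omega))
  have c4 := congrFun hc (ix 4 (by omega))
  have c5 := congrFun hc (ix 5 (by omega))
  simp [ix] at c0 c1 c2 c3 c4 c5
  set a0 := a ⟨0, _⟩
  set a1 := a ⟨1, _⟩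
  set a2 := a ⟨2, _⟩
  set a3 := a ⟨3, _⟩
  set a4 := a ⟨4, _⟩
  set a5 := a ⟨5, _⟩
  have k5 : m6 (q : R) * a5 = 0 := by
    simp only [m6]
    linear_combination -(q : R) ^ 5 * c0 - (q : R) ^ 4 * c1 - (q : R) ^ 3 * c2 - (q : R) ^ 2 * c3 - (q : R) * c4 - c5
  have k0 : m6 (q : R) * a0 = 0 := by linear_combination -m6 (q : R) * c0 - (q : R) * k5
  have k1 : m6 (q : R) * a1 = 0 := by linear_combination -m6 (q : R) * c1 + (q : R) * k0 - (q : R) * k5
  have k2 : m6 (q : R) * a2 = 0 := by linear_combination -m6 (q : R) * c2 + (q : R) * k1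
  have k3 : m6 (q : R) * a3 = 0 := by linear_combination -m6 (q : R) * c3 + (q : R) * k2 + (q : R) * k5
  have k4 : m6 (q : R) * a4 = 0 := by linear_combination -m6 (q : R) * c4 + (q : R) * k3
  rw [hva, ← Matrix.mulVec_smul]
  have hz : m6 (q : R) • a = 0 := funext fun i => by
    rw [Pi.smul_apply, smul_eq_mul, Pi.zero_apply]
    rcases ix_cases i with rfl | rfl | rfl | rfl | rfl | rfl
    exacts [k0, k1, k2, k3, k4, k5]
  rw [hz, Matrix.mulVec_zero]

end Ring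

/-- A vector modulo three fixed by a Coxeter element is killed by the Cartan matrix. -/
theorem Good.fixed_three (hy : Good σ y) (hσ : σ ∈ C.WG) {v : I6 → ZMod 3}
    (hv : (mat C σ).map (Int.cast : ℤ → ZMod 3) *ᵥ v = v) : amat.map (Int.cast : ℤ → ZMod 3) *ᵥ v = 0 := by
  obtain ⟨h1, h2⟩ := hy.cy_inv hσ
  set a := (cyi σ y).map (Int.cast : ℤ → ZMod 3) *ᵥ v with ha
  have hva : v = (cy σ y).map (Int.cast : ℤ → ZMod 3) *ᵥ a := by
    rw [ha, Matrix.mulVec_mulVec, ← map_mul', h1, map_one', Matrix.one_mulVec]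
  have hc : comp.map (Int.cast : ℤ → ZMod 3) *ᵥ a = a := by
    have e : comp = cyi σ y * (mat C σ * cy σ y) := by
      rw [hy.shift hσ, ← Matrix.mul_assoc, h2, Matrix.one_mul]
    rw [e, map_mul', map_mul', ← Matrix.mulVec_mulVec, ← Matrix.mulVec_mulVec, ← hva, hv]
  rw [comp_apply] at hc
  have key : gram.map (Int.cast : ℤ → ZMod 3) *ᵥ a = 0 := by
    have c0 := congrFun hc (ix 0 (by omega))
    have c1 := congrFun hc (ix 1 (by omega))
    have c2 := congrFun hc (ix 2 (by omega))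
    have c3 := congrFun hc (ix 3 (by omega))
    have c4 := congrFun hc (ix 4 (by omega))
    have fin : ∀ a0 a1 a2 a3 a4 a5 : ZMod 3, -a5 = a0 → a0 - a5 = a1 → a1 = a2 → a2 + a5 = a3 → a3 = a4 →
        2 * a0 + a3 - a4 - a5 = 0 ∧ 2 * a1 + a4 - a5 = 0 ∧ 2 * a2 + a5 = 0 ∧ a0 + 2 * a3 = 0 ∧
        -a0 + a1 + 2 * a4 = 0 ∧ -a0 - a1 + a2 + 2 * a5 = 0 := by decide +kernel
    simp [ix] at c0 c1 c2 c3 c4
    obtain ⟨f0, f1, f2, f3, f4, f5⟩ := fin _ _ _ _ _ _ c0 c1 c2 c3 c4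
    funext i
    simp only [Matrix.mulVec, dotProduct, sum_six, Pi.zero_apply]
    rcases ix_cases i with rfl | rfl | rfl | rfl | rfl | rfl <;> simp [gram, matL, ix]
    · linear_combination f0
    · linear_combination f1
    · linear_combination f2
    · linear_combination f3
    · linear_combination f4
    · linear_combination f5
  rw [← hy.gram_cyc hσ, map_mul', map_mul', ← Matrix.mulVec_mulVec, ← hva] at key
  have e := congrArg ((cyi σ y)ᵀ.map (Int.cast : ℤ → ZMod 3) *ᵥ ·) key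
  simp only [Matrix.mulVec_zero, Matrix.mulVec_mulVec] at e
  rwa [← map_mul', ← map_mul', ← Matrix.mul_assoc, ← Matrix.transpose_mul, h1, Matrix.transpose_one, Matrix.one_mul] at e

/-- the quadratic form of the inverse Gram matrix -/
def qf (b : ℕ → ℤ) : ℤ :=
  10 * b 0 * b 0 + 4 * b 1 * b 1 + 4 * b 2 * b 2 + 4 * b 3 * b 3 + 4 * b 4 * b 4 + 10 * b 5 * b 5 +
  2 * (2 * b 0 * b 1 - 4 * b 0 * b 2 - 5 * b 0 * b 3 + 4 * b 0 * b 4 + 8 * b 0 * b 5 - 2 * b 1 * b 2 -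
    b 1 * b 3 - b 1 * b 4 + 4 * b 1 * b 5 + 2 * b 2 * b 3 - b 2 * b 4 - 5 * b 2 * b 5 - 2 * b 3 * b 4 -
    4 * b 3 * b 5 + 2 * b 4 * b 5)

/-- the norm of the polynomial with coefficients a, reduced modulo X⁴ − X² + 1 -/
def nrm (a0 a1 a2 a3 a4 a5 : ℤ) : ℤ :=
  let u0 := a0 - a4
  let u1 := a1 - a5
  let u2 := a2 + a4
  let u3 := a3 + a5
  let c0 := u0 * u0 - u2 * u2 + 2 * u1 * u3 + u3 * u3
  let c1 := 2 * u0 * u2 + u2 * u2 - u1 * u1 - 2 * u1 * u3
  c0 * c0 + c0 * c1 + c1 * c1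

/-- the norm is 1 or 4 -/
def nrmOK (b0 b1 b2 b3 b4 b5 : ℤ) : Bool :=
  let N := nrm ((10 * b0 + 2 * b1 - 4 * b2 - 5 * b3 + 4 * b4 + 8 * b5) / 3)
    ((2 * b0 + 4 * b1 - 2 * b2 - b3 - b4 + 4 * b5) / 3)
    ((-4 * b0 - 2 * b1 + 4 * b2 + 2 * b3 - b4 - 5 * b5) / 3)
    ((-5 * b0 - b1 + 2 * b2 + 4 * b3 - 2 * b4 - 4 * b5) / 3)
    ((4 * b0 - b1 - b2 - 2 * b3 + 4 * b4 + 2 * b5) / 3)
    ((8 * b0 + 4 * b1 - 5 * b2 - 4 * b3 + 2 * b4 + 10 * b5) / 3)
  decide (N = 1) || decide (N = 4)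

theorem norm_table : allLt 5 (fun i0 => allLt 5 fun i1 => allLt 5 fun i2 => allLt 5 fun i3 => allLt 5 fun i4 =>
    allLt 5 fun i5 => !decide (qf (fun k => [(i0 : ℤ) - 2, (i1 : ℤ) - 2, (i2 : ℤ) - 2, (i3 : ℤ) - 2, (i4 : ℤ) - 2,
      (i5 : ℤ) - 2].getD k 0) = 6) ||
      nrmOK ((i0 : ℤ) - 2) ((i1 : ℤ) - 2) ((i2 : ℤ) - 2) ((i3 : ℤ) - 2) ((i4 : ℤ) - 2) ((i5 : ℤ) - 2)) = true := by
  decide +kernel

theorem bound_table : allLt 72 (fun r => allLt 72 fun s => Nat.ble (bv r s) 4) = true := by decide +kernel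

theorem B2_bound (x z : Rt chevE6) : -2 ≤ B2 x z ∧ B2 x z ≤ 2 := by
  have h := Nat.le_of_ble_eq_true (allLt_iff.1 (allLt_iff.1 bound_table _ (val_lt x)) _ (val_lt z))
  have := bv_eq x z
  omega

theorem B2_self (x : Rt chevE6) : B2 x x = 2 := by
  have h2 : allLt 72 (fun r => Nat.beq (bv r r) 4) = true := by decide +kernel
  have h3 := bv_eq x x
  rw [Nat.eq_of_beq_eq_true (allLt_iff.1 h2 _ (val_lt x))] at h3
  omega

/-- An eigenfunctional of order 12 modulo an odd prime vanishes at no root. -/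
theorem Good.regular (hy : Good σ y) (hσ : σ ∈ C.WG) {r : ℕ} [Fact r.Prime] (hr2 : r ≠ 2) {q : ℤ}
    (hq : (q : ZMod r) ^ 4 - (q : ZMod r) ^ 2 + 1 = 0) {E : I6 → ZMod r}
    (hE : E ᵥ* (mat C σ).map (Int.cast : ℤ → ZMod r) = (q : ZMod r) • E) (hE0 : E ≠ 0) (z : Rt chevE6) :
    ev C E z ≠ 0 := by
  obtain ⟨h1, h2⟩ := hy.cy_inv hσ
  set a := cyi σ y *ᵥ C.v z with ha
  have hza : C.v z = cy σ y *ᵥ a := by rw [ha, Matrix.mulVec_mulVec, h1, Matrix.one_mulVec]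
  set b := gram *ᵥ a with hb
  have hb2 : ∀ i, b i = B2 ((σ ^ i.val) y) z := by
    intro i
    rw [hb, ← hy.gram_cyc hσ, ← Matrix.mulVec_mulVec, ← Matrix.mulVec_mulVec, ← hza, B2, ← v_pow C hσ]
    rfl
  have hnorm : a ⬝ᵥ b = 2 := by
    rw [hb, ← hy.gram_cyc hσ, ← Matrix.mulVec_mulVec, ← Matrix.mulVec_mulVec, ← hza, Matrix.dotProduct_mulVec,
      Matrix.vecMul_transpose, ← hza]
    exact B2_self z
  have h3a : gramAdj *ᵥ b = fun i => 3 * a i := by
    rw [hb, Matrix.mulVec_mulVec, gram_adj_mul]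
    funext i
    rw [Matrix.mulVec_diagonal]
  have a0 := congrFun h3a (ix 0 (by omega))
  have a1 := congrFun h3a (ix 1 (by omega))
  have a2 := congrFun h3a (ix 2 (by omega))
  have a3 := congrFun h3a (ix 3 (by omega))
  have a4 := congrFun h3a (ix 4 (by omega))
  have a5 := congrFun h3a (ix 5 (by omega))
  simp [Matrix.mulVec, dotProduct, sum_six, gramAdj, matL, ix] at a0 a1 a2 a3 a4 a5
  have hbb : ∀ i, ∃ n : ℕ, n < 5 ∧ b i = (n : ℤ) - 2 := fun i => by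
    obtain ⟨l, h⟩ := B2_bound ((σ ^ i.val) y) z
    exact ⟨(b i + 2).toNat, by rw [hb2]; omega, by rw [hb2]; omega⟩
  obtain ⟨n0, l0, e0⟩ := hbb (ix 0 (by omega))
  obtain ⟨n1, l1, e1⟩ := hbb (ix 1 (by omega))
  obtain ⟨n2, l2, e2⟩ := hbb (ix 2 (by omega))
  obtain ⟨n3, l3, e3⟩ := hbb (ix 3 (by omega))
  obtain ⟨n4, l4, e4⟩ := hbb (ix 4 (by omega))
  obtain ⟨n5, l5, e5⟩ := hbb (ix 5 (by omega))
  have hN := allLt_iff.1 (allLt_iff.1 (allLt_iff.1 (allLt_iff.1 (allLt_iff.1 (allLt_iff.1 norm_table n0 l0)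
    n1 l1) n2 l2) n3 l3) n4 l4) n5 l5
  simp only [dotProduct, sum_six] at hnorm
  simp only [ix] at hnorm e0 e1 e2 e3 e4 e5
  set b0 := b ⟨0, _⟩
  set b1 := b ⟨1, _⟩
  set b2 := b ⟨2, _⟩
  set b3 := b ⟨3, _⟩
  set b4 := b ⟨4, _⟩
  set b5 := b ⟨5, _⟩
  set A0 := a ⟨0, _⟩
  set A1 := a ⟨1, _⟩
  set A2 := a ⟨2, _⟩
  set A3 := a ⟨3, _⟩
  set A4 := a ⟨4, _⟩
  set A5 := a ⟨5, _⟩
  rw [← e0, ← e1, ← e2, ← e3, ← e4, ← e5] at hN
  have hqf : qf (fun k => [b0, b1, b2, b3, b4, b5].getD k 0) = 6 := by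
    simp [qf]
    linear_combination b0 * a0 + b1 * a1 + b2 * a2 + b3 * a3 + b4 * a4 + b5 * a5 + 3 * hnorm
  rw [decide_eq_true hqf, Bool.not_true, Bool.false_or, nrmOK] at hN
  have d0 : (10 * b0 + 2 * b1 - 4 * b2 - 5 * b3 + 4 * b4 + 8 * b5) / 3 = A0 := by omega
  have d1 : (2 * b0 + 4 * b1 - 2 * b2 - b3 - b4 + 4 * b5) / 3 = A1 := by omega
  have d2 : (-4 * b0 - 2 * b1 + 4 * b2 + 2 * b3 - b4 - 5 * b5) / 3 = A2 := by omega
  have d3 : (-5 * b0 - b1 + 2 * b2 + 4 * b3 - 2 * b4 - 4 * b5) / 3 = A3 := by omega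
  have d4 : (4 * b0 - b1 - b2 - 2 * b3 + 4 * b4 + 2 * b5) / 3 = A4 := by omega
  have d5 : (8 * b0 + 4 * b1 - 5 * b2 - 4 * b3 + 2 * b4 + 10 * b5) / 3 = A5 := by omega
  rw [d0, d1, d2, d3, d4, d5] at hN
  simp only [Bool.or_eq_true, decide_eq_true_eq] at hN
  intro h0
  have hw := Good.eigen_cy (y := y) hσ hE
  have hu : ev C E y ≠ 0 := by
    intro hu
    refine hE0 ?_
    rw [(hy.eigen hσ hE).2, hu]
    simp only [mul_zero]
    exact Matrix.zero_vecMul _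
  have hz : ev C E z = ev C E y * ((A0 : ZMod r) + A1 * q + A2 * q ^ 2 + A3 * q ^ 3 + A4 * q ^ 4 + A5 * q ^ 5) := by
    have e : (fun k => (C.v z k : ZMod r)) = (cy σ y).map (Int.cast : ℤ → ZMod r) *ᵥ fun k => (a k : ZMod r) := by
      rw [hza]
      exact funext fun k => (Int.castRingHom (ZMod r)).map_mulVec _ _ k
    rw [ev, e, Matrix.dotProduct_mulVec, hw]
    simp only [dotProduct, sum_six]
    simp [ix]
    ring
  rw [hz, mul_eq_zero] at h0
  rcases h0 with h0 | h0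
  · exact hu h0
  set Q := (q : ZMod r)
  have hS : ((A0 - A4 : ℤ) : ZMod r) + (A1 - A5 : ℤ) * Q + (A2 + A4 : ℤ) * Q ^ 2 + (A3 + A5 : ℤ) * Q ^ 3 = 0 := by
    push_cast
    linear_combination h0 - ((A4 : ZMod r) + (A5 : ZMod r) * Q) * hq
  have hNz : (nrm A0 A1 A2 A3 A4 A5 : ZMod r) = 0 := by
    simp only [nrm]
    set u0 := ((A0 - A4 : ℤ) : ZMod r) with hu0
    set u1 := ((A1 - A5 : ℤ) : ZMod r) with hu1
    set u2 := ((A2 + A4 : ℤ) : ZMod r) with hu2
    set u3 := ((A3 + A5 : ℤ) : ZMod r) with hu3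
    simp only [Int.cast_add, Int.cast_mul, Int.cast_sub, Int.cast_ofNat] at hu0 hu1 hu2 hu3 ⊢
    rw [← hu0, ← hu1, ← hu2, ← hu3]
    set c0 := u0 * u0 - u2 * u2 + 2 * u1 * u3 + u3 * u3
    set c1 := 2 * u0 * u2 + u2 * u2 - u1 * u1 - 2 * u1 * u3
    have hc : c0 + c1 * Q ^ 2 = 0 := by
      simp only [c0, c1]
      linear_combination (u0 - u1 * Q + u2 * Q ^ 2 - u3 * Q ^ 3) * hS -
        (u2 * u2 - 2 * u1 * u3 - u3 * u3 * Q ^ 2 - u3 * u3) * hq
    linear_combination (c0 + c1 - c1 * Q ^ 2) * hc + c1 ^ 2 * hq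
  have hr : r.Prime := Fact.out
  have h2 : ((2 : ℤ) : ZMod r) ≠ 0 := by
    rw [Ne, ZMod.intCast_zmod_eq_zero_iff_dvd]
    intro h
    have h' : r ∣ 2 := by exact_mod_cast h
    exact hr2 ((Nat.prime_dvd_prime_iff_eq hr Nat.prime_two).1 h')
  rcases hN with hN | hN <;> rw [hN] at hNz
  · simp at hNz
  · refine mul_ne_zero h2 h2 ?_
    rw [← Int.cast_mul]
    exact hNz

end Cfsg.Agent.Lib.ChevStructure.RegTorusSix
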