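import Cfsg.Agent.Lib.ChevFixed.Field

/-!
The cube of an element fixed by a field automorphism comes from the fixed field, when three times the inverse
of the Cartan matrix is integral.
-/

set_option autoImplicit false
set_option linter.unusedSectionVars false

namespace Cfsg.Agent.Lib.ChevStructure.RegTorusSix.Fixed

open Cfsg.Lie Cfsg.Agent.Lib.ChevStructure Cfsg.Agent.Lib.ChevFixed
open scoped MatrixGroups Matrix

variable {D : ChevalleyDatum} (C : Core D)

include C in
/-- A power d of a torus parameter as a product of the values at the fundamental roots. -/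
theorem pow_eq {R : Type*} [CommRing R] {d : ℕ} {B : List (List ℤ)} (hB : InvCartan D d B) (c : Fin D.rank → Rˣ)
    (k : Fin D.rank) : ∏ m, C.chA c (C.p m) ^ (B.getD k.val []).getD m.val 0 = c k ^ d := by
  calc ∏ m, C.chA c (C.p m) ^ (B.getD k.val []).getD m.val 0
      = ∏ m, ∏ j, c j ^ (A D j (C.p m) * (B.getD k.val []).getD m.val 0) := by
        simp only [Core.chA, ← Finset.prod_zpow, ← zpow_mul]
    _ = ∏ j, c j ^ (∑ m, A D j (C.p m) * (B.getD k.val []).getD m.val 0) := by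
        rw [Finset.prod_comm]
        exact Finset.prod_congr rfl fun j _ => (C.zpow_fsum _ _ _).symm
    _ = ∏ j, c j ^ (if j = k then (d : ℤ) else 0) := by
        refine Finset.prod_congr rfl fun j _ => ?_
        rw [← hB j k]
        refine congrArg (c j ^ ·) (Finset.sum_congr rfl fun m _ => ?_)
        rw [C.simple_eq]; rfl
    _ = c k ^ d := by
        rw [Finset.prod_eq_single k (fun j _ hj => by simp [hj]) (by simp), if_pos rfl, zpow_natCast]

variable {K F : Type*} [Field K] [Field F] (H : CommOK C)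

include H

/-- The cube of a fixed element comes from the fixed field. -/
theorem cube_mem {B : List (List ℤ)} (hB : InvCartan D 3 B) (f : K →+* F) (σ : F →+* F)
    (hσf : ∀ a, σ (f a) = f a) (hfix : ∀ x, σ x = x → ∃ y, f y = x) {g : GL D.Idx F} (hg : g ∈ D.group F)
    (hσ : Matrix.GeneralLinearGroup.map σ g = g) :
    g ^ 3 ∈ (D.group K).map (Matrix.GeneralLinearGroup.map f) := by
  set M := (D.group K).map (Matrix.GeneralLinearGroup.map f) with hM
  have hU : ∀ u ∈ C.US F C.Pos, Matrix.GeneralLinearGroup.map σ u = u → u ∈ M := by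
    intro u hu hfu
    obtain ⟨t, rfl⟩ := H.exists_posWord F hu
    rw [map_wordX] at hfu
    have ht := C.wordX_unique F C.posL_sorted (fun r hr => C.mem_posL.1 hr) hfu
    refine list_prod_mem fun x hx => ?_
    rw [List.mem_map] at hx
    obtain ⟨r, hr, rfl⟩ := hx
    obtain ⟨y, hy⟩ := hfix _ (ht r hr)
    exact ⟨C.X K r y, C.X_mem_group r y, by rw [C.X_map, hy]⟩
  obtain ⟨L, b, hb, v, hv, rfl⟩ := exists_form H hg
  obtain ⟨u, hu, k, hk, rfl⟩ := C.mem_borel_iff.1 hb
  obtain ⟨c, rfl⟩ := C.mem_diagonal_iff.1 hk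
  simp only [map_mul, map_wprod, map_HT] at hσ
  set c' : Fin D.rank → Fˣ := fun j => Units.map σ.toMonoidHom (c j) with hc'
  have hu' : Matrix.GeneralLinearGroup.map σ u ∈ C.US F C.Pos := map_US_le C σ _ ⟨u, hu, rfl⟩
  have hv' : Matrix.GeneralLinearGroup.map σ v ∈ C.US F (C.inv' (C.pprod L)) :=
    map_US_le C σ _ ⟨v, hv, rfl⟩
  obtain ⟨e1, e2⟩ := form_unique L (mul_mem (C.posUS_le_borel hu')
    (C.diagonal_le_borel (C.HT_mem_diagonal c'))) hb hv' hv hσ
  have e3 : u⁻¹ * Matrix.GeneralLinearGroup.map σ u = C.HT F c * (C.HT F c')⁻¹ := by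
    rw [eq_mul_inv_iff_mul_eq, mul_assoc, e1, inv_mul_cancel_left]
  have e4 : u⁻¹ * Matrix.GeneralLinearGroup.map σ u = 1 := by
    rw [← Subgroup.mem_bot, ← C.US_inf_diagonal]
    refine Subgroup.mem_inf.2 ⟨mul_mem (inv_mem hu) hu', ?_⟩
    rw [e3]
    exact mul_mem (C.HT_mem_diagonal c) (inv_mem (C.HT_mem_diagonal c'))
  have e5 : C.HT F c' = C.HT F c := (mul_inv_eq_one.1 (e3.symm.trans e4)).symm
  have hch : ∀ r, σ (C.chA c r : F) = C.chA c r := fun r => by
    have h1 : C.chA c' r = C.chA c r := congrFun (C.diag_inj F e5) r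
    conv_rhs => rw [← h1]
    show σ ((∏ j, c j ^ A D j r : Fˣ) : F) = ((∏ j, c' j ^ A D j r : Fˣ) : F)
    rw [show σ ((∏ j, c j ^ A D j r : Fˣ) : F) =
      ((Units.map σ.toMonoidHom (∏ j, c j ^ A D j r) : Fˣ) : F) from rfl, map_prod]
    simp only [map_zpow]
    rfl
  -- conjugation by the diagonal element keeps the image
  have hconj : ∀ z : ℤ, ∀ m ∈ M, C.HT F c ^ z * m * (C.HT F c ^ z)⁻¹ ∈ M := by
    intro z m hm
    rw [show C.HT F c ^ z = C.HT F (c ^ z) from (map_zpow (C.HThom F) c z).symm]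
    have hz : ∀ r, σ (C.chA (c ^ z) r : F) = C.chA (c ^ z) r := fun r => by
      have e : C.chA (c ^ z) r = C.chA c r ^ z := by
        simp only [Core.chA, Pi.pow_apply, ← Finset.prod_zpow, ← zpow_mul, mul_comm]
      rw [e, Units.val_zpow_eq_zpow_val, map_zpow₀, hch]
    obtain ⟨m0, hm0, rfl⟩ := hm
    have hle : D.group K ≤ M.comap ((MulAut.conj (C.HT F (c ^ z))).toMonoidHom.comp
        (Matrix.GeneralLinearGroup.map f)) := by
      rw [ChevalleyDatum.group, Subgroup.closure_le]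
      rintro a ⟨r, t, hg⟩
      have ea : a = C.X K r t := C.eq_X (by rw [hg, ChevalleyDatum.x, dif_pos r.isLt])
      subst ea
      obtain ⟨w, hw⟩ := hfix _ (hz r)
      show C.HT F (c ^ z) * Matrix.GeneralLinearGroup.map f (C.X K r t) * (C.HT F (c ^ z))⁻¹ ∈ M
      rw [C.X_map, C.HT_X_conj, ← hw, ← map_mul f, ← C.X_map]
      exact ⟨_, C.X_mem_group r _, rfl⟩
    exact hle hm0
  have hh3 : C.HT F c ^ 3 ∈ M := by
    rw [show C.HT F c ^ 3 = C.HT F (c ^ 3) from (map_pow (C.HThom F) c 3).symm]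
    have hfu : ∀ k, ∃ y : Kˣ, Units.map f.toMonoidHom y = c k ^ 3 := by
      intro k
      have hs : σ ((c k ^ 3 : Fˣ) : F) = ((c k ^ 3 : Fˣ) : F) := by
        rw [← pow_eq C hB c k]
        simp only [Units.coe_prod, map_prod, Units.val_zpow_eq_zpow_val, map_zpow₀, hch]
      obtain ⟨y, hy⟩ := hfix _ hs
      have hy0 : y ≠ 0 := fun h0 => (c k ^ 3).ne_zero (by rw [← hy, h0, map_zero])
      exact ⟨Units.mk0 y hy0, Units.ext hy⟩
    choose c₀ hc₀ using hfu
    exact ⟨C.HT K c₀, C.HT_mem_group c₀, by rw [map_HT, funext hc₀]; rfl⟩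
  have hvM : v ∈ M := hU v (C.US_mono F (fun r hr => hr.1) hv) e2
  have huM : u ∈ M := hU u hu (inv_mul_eq_one.1 e4).symm
  have hwM : C.wprod F L ∈ M := ⟨C.wprod K L, C.monomial_le_group (C.wprod_mem_monomial L), map_wprod C f L⟩
  set h := C.HT F c
  set m := h⁻¹ * u * h * C.wprod F L * v with hm
  have hmM : m ∈ M := by
    refine mul_mem (mul_mem ?_ hwM) hvM
    have := hconj (-1) u huM
    rwa [zpow_neg_one, inv_inv] at this
  rw [show u * h * C.wprod F L * v = h * m by rw [hm]; group]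
  rw [show (h * m) ^ 3 = h ^ 3 * ((h ^ (-2 : ℤ)) * m * (h ^ (-2 : ℤ))⁻¹) * ((h ^ (-1 : ℤ)) * m * (h ^ (-1 : ℤ))⁻¹) * m by
    simp only [pow_succ, pow_zero, one_mul]; group]
  exact mul_mem (mul_mem (mul_mem hh3 (hconj _ _ hmM)) (hconj _ _ hmM)) hmM

end Cfsg.Agent.Lib.ChevStructure.RegTorusSix.Fixed
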