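import Cfsg.Agent.Lib.CurtisTits.Center
import Cfsg.Agent.Lib.ChevFixed.Field

/-!
Field maps of Steinberg's groups, and the exact equation satisfied by the torus preimage of an element over
the ground field which is conjugate into the torus over a larger field.
-/

set_option autoImplicit false
set_option linter.unusedSectionVars false

namespace Cfsg.Agent.Lib.ChevStructure.RegTorusSix.Lift

open Cfsg.Lie
open Cfsg.Agent.Lib.ChevStructure Cfsg.Agent.Lib.CurtisTits
open scoped MatrixGroups Matrix

universe u v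

section Functor

variable {D : ChevalleyDatum} {K : Type u} {L : Type v} [Field K] [Field L] (f : K →+* L)

/-- A field map on free groups. -/
def free (D : ChevalleyDatum) : FreeGroup (Fin D.nroots × K) →* FreeGroup (Fin D.nroots × L) :=
  FreeGroup.lift fun x => D.stX x.1.val (f x.2)

theorem free_stX (r : ℕ) (t : K) : free f D (D.stX r t) = D.stX r (f t) := by
  by_cases h : r < D.nroots
  · simp [free, ChevalleyDatum.stX, h]
  · simp [ChevalleyDatum.stX, h]

theorem free_stWord (w : List (ℕ × K)) :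
    free f D (D.stWord w) = D.stWord (w.map fun x => (x.1, f x.2)) := by
  simp [ChevalleyDatum.stWord, map_list_prod, List.map_map, Function.comp_def, free_stX]

theorem free_stH (r : ℕ) (t : K) : free f D (D.stH r t) = D.stH r (f t) := by
  rw [ChevalleyDatum.stH, free_stWord]
  simp [ChevalleyDatum.stH, ChevalleyDatum.hWord, ChevalleyDatum.nWord]

theorem free_rels : ∀ g ∈ D.steinbergRels K, free f D g ∈ D.steinbergRels L := by
  rintro g ((⟨r, t₁, t₂, hr, rfl⟩ | ⟨r, s, t, u, hr, hs, h1, h2, rfl⟩) | ⟨r, t₁, t₂, hr, h1, h2, rfl⟩)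
  · left; left
    exact ⟨r, f t₁, f t₂, hr, by simp [free_stX]⟩
  · left; right
    refine ⟨r, s, f t, f u, hr, hs, h1, h2, ?_⟩
    simp [free_stX, free_stWord, ChevalleyDatum.commWord, List.map_map, Function.comp_def]
  · right
    exact ⟨r, f t₁, f t₂, hr, by simpa using h1, by simpa using h2, by simp [free_stH]⟩

theorem map_rels : ∀ g ∈ D.steinbergRels K,
    FreeGroup.lift (fun x => D.stGen L x.1.val (f x.2)) g = 1 := by
  intro g hg
  have e : FreeGroup.lift (fun x => D.stGen L x.1.val (f x.2)) g =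
      PresentedGroup.mk (D.steinbergRels L) (free f D g) := by
    refine DFunLike.congr_fun (?_ : FreeGroup.lift _ = (PresentedGroup.mk _).comp (free f D)) g
    exact FreeGroup.ext_hom _ _ fun x => by simp [free, ChevalleyDatum.stGen]
  rw [e]
  exact PresentedGroup.one_of_mem (free_rels f g hg)

/-- A field map on Steinberg's groups. -/
def fmap (D : ChevalleyDatum) : D.SteinbergGroup K →* D.SteinbergGroup L :=
  PresentedGroup.toGroup (map_rels (D := D) f)

theorem fmap_mk (g : FreeGroup (Fin D.nroots × K)) :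
    fmap f D (PresentedGroup.mk (D.steinbergRels K) g) = PresentedGroup.mk (D.steinbergRels L) (free f D g) := by
  refine DFunLike.congr_fun (?_ : (fmap f D).comp (PresentedGroup.mk _) = (PresentedGroup.mk _).comp (free f D)) g
  refine FreeGroup.ext_hom _ _ fun x => ?_
  rw [MonoidHom.comp_apply, MonoidHom.comp_apply,
    show PresentedGroup.mk (D.steinbergRels K) (FreeGroup.of x) = PresentedGroup.of x from rfl, fmap,
    PresentedGroup.toGroup.of]
  simp [free, ChevalleyDatum.stGen]

theorem fmap_gen (r : ℕ) (t : K) : fmap f D (D.stGen K r t) = D.stGen L r (f t) := by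
  rw [ChevalleyDatum.stGen, fmap_mk, free_stX]; rfl

variable {C : Core D} {T : Tree C}

theorem stMap_gen' (cert : Cert.{u} C T) (hs : SuppOne C) (r : Rt D) (t : K) :
    (stMap cert hs (D.stGen K r.val t) : GL D.Idx K) = C.X K r t := by
  refine Units.ext ?_
  rw [stMap_gen cert hs, C.X_val_x]

theorem stMap_fmap (cert : Cert.{u} C T) (cert2 : Cert.{v} C T) (hs : SuppOne C) (x : D.SteinbergGroup K) :
    (stMap cert2 hs (fmap f D x) : GL D.Idx L) =
      Matrix.GeneralLinearGroup.map f (stMap cert hs x : GL D.Idx K) := by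
  refine DFunLike.congr_fun (?_ : ((D.group L).subtype.comp (stMap cert2 hs)).comp (fmap f D) =
    (Matrix.GeneralLinearGroup.map f).comp ((D.group K).subtype.comp (stMap cert hs))) x
  refine PresentedGroup.ext fun ⟨r, t⟩ => ?_
  have e : D.stGen K r.val t = PresentedGroup.of (r, t) := by
    simp [ChevalleyDatum.stGen, ChevalleyDatum.stX, PresentedGroup.of]
  rw [← e]
  simp only [MonoidHom.comp_apply, Subgroup.subtype_apply, fmap_gen]
  rw [stMap_gen' cert2 hs, stMap_gen' cert hs, C.X_map]

theorem fmap_torus (cert : Cert.{u} C T) (cert2 : Cert.{v} C T) (hs : SuppOne C) (c : Fin D.rank → Kˣ) :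
    fmap f D (torus cert hs c) = torus cert2 hs fun j => Units.map f.toMonoidHom (c j) := by
  let φ : (Fin D.rank → Kˣ) →* (Fin D.rank → Lˣ) :=
    { toFun := fun c j => Units.map f.toMonoidHom (c j)
      map_one' := funext fun j => map_one _
      map_mul' := fun a b => funext fun j => map_mul _ _ _ }
  refine DFunLike.congr_fun (?_ : (fmap f D).comp (torus cert hs) = (torus cert2 hs).comp φ) c
  refine MonoidHom.pi_ext fun i x => ?_
  have e : φ (Pi.mulSingle i x) = Pi.mulSingle i (Units.map f.toMonoidHom x) := funext fun j => by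
    show Units.map f.toMonoidHom ((Pi.mulSingle i x : Fin D.rank → Kˣ) j) = _
    exact Pi.apply_mulSingle (fun _ => ⇑(Units.map f.toMonoidHom)) (fun _ => map_one _) i x j
  rw [MonoidHom.comp_apply, MonoidHom.comp_apply, e, torus_single, torus_single, hSt_eq, hSt_eq, fmap_mk,
    free_stH]
  rfl

end Functor

variable {D D' : ChevalleyDatum} {C : Core D} {C' : Core D'} {T : Tree C} {T' : Tree C'} {K : Type u} [Field K]

/-- The action of a fundamental reflection on torus parameters. -/
def act (C : Core D) (i : Fin D.rank) (c : Fin D.rank → Kˣ) : Fin D.rank → Kˣ :=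
  c * Pi.mulSingle i (C.chA c (C.p i))⁻¹

/-- The action of a word on torus parameters. -/
def actL (C : Core D) : List (Fin D.rank) → (Fin D.rank → Kˣ) → Fin D.rank → Kˣ
  | [], c => c
  | i :: L, c => act C i (actL C L c)

theorem P_HT_act (C : Core D) (i : Fin D.rank) (c : Fin D.rank → Kˣ) :
    C.P K i * C.HT K c = C.HT K (act C i c) * C.P K i := by
  rw [Core.HT, C.P_diag, Core.HT]
  congr 1
  refine congrArg (Core.diag K) (funext fun s => ?_)
  simp only [act, Pi.mul_apply, mul_zpow, Finset.prod_mul_distrib]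
  rw [Finset.prod_eq_single (f := fun j => (Pi.mulSingle i (C.chA c (C.p i))⁻¹ : Fin D.rank → Kˣ) j ^ A D j s) i
    (fun j _ hj => by simp [hj]) (by simp), Pi.mulSingle_eq_same, Core.chA, inv_zpow, ← Finset.prod_zpow,
    ← Finset.prod_inv_distrib, ← Finset.prod_mul_distrib]
  refine Finset.prod_congr rfl fun j _ => ?_
  rw [C.A_w, _root_.zpow_sub, ← zpow_mul, mul_comm (A D i s)]

/-- The preimage of n_p in Steinberg's group. -/
def wSt (C : Core D) (K : Type u) [Field K] (i : Fin D.rank) : D.SteinbergGroup K :=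
  D.stGen K (C.p i).val 1 * D.stGen K (C.p i).rev.val (-1) * D.stGen K (C.p i).val 1

theorem stMap_wSt (cert : Cert.{u} C T) (hs : SuppOne C) (i : Fin D.rank) :
    (stMap cert hs (wSt C K i) : GL D.Idx K) = C.P K i := by
  simp only [wSt, map_mul, Subgroup.coe_mul, stMap_gen' cert hs, Core.P, Core.nR]
  simp

theorem stMap_torus' (cert : Cert.{u} C T) (hs : SuppOne C) (c : Fin D.rank → Kˣ) :
    (stMap cert hs (torus cert hs c) : GL D.Idx K) = C.HT K c := stMap_torus cert hs c

/-- The hypotheses: the smaller group sits in a larger one with trivial centre. -/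
structure Ambient (C : Core D) (T : Tree C) (C' : Core D') (T' : Tree C') : Prop where
  cert : Cert.{u} C T
  hs : SuppOne C
  cert' : Cert.{u} C' T'
  hs' : SuppOne C'
  emb : ∃ M : Embed C C', ∀ j i, A D' (M.e j) (C'.p (M.e i)) = A D j (C.p i)
  inv : ∃ B : Fin D'.rank → Fin D'.rank → ℤ, ∀ k m, ∑ i, A D' k (C'.p i) * B i m = if k = m then 1 else 0

variable (S : Ambient.{u} C T C' T')
include S

theorem torus_eq_one {M : Embed C C'} {d : Fin D.rank → Kˣ}
    (h0 : stMap S.cert' S.hs' (M.hom (torus S.cert S.hs d)) = 1) : d = 1 := by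
  obtain ⟨B, hB⟩ := S.inv
  rw [M.hom_torus S.cert S.hs S.cert' S.hs'] at h0
  have h := (torus_ker_iff S.cert' S.hs' _).1 h0
  funext j
  have h1 := zpow_comb (fun k i => A D' k (C'.p i)) (M.pad d) fun i => B i (M.e j)
  rw [Finset.prod_eq_one fun i _ => by rw [h i, one_zpow]] at h1
  simp only [hB] at h1
  rw [Finset.prod_eq_single (M.e j) (fun k _ hk => by simp [hk]) (by simp), if_pos rfl, zpow_one, M.pad_e] at h1
  exact h1.symm

theorem torus_inj : Function.Injective (torus (K := K) S.cert S.hs) := by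
  obtain ⟨M, -⟩ := S.emb
  rw [injective_iff_map_eq_one]
  intro d hd
  exact torus_eq_one S (M := M) (by rw [hd, map_one, map_one])

theorem wSt_torus (i : Fin D.rank) (c : Fin D.rank → Kˣ) :
    wSt C K i * torus S.cert S.hs c = torus S.cert S.hs (act C i c) * wSt C K i := by
  obtain ⟨M, hA⟩ := S.emb
  rw [← mul_inv_eq_one]
  have h6 : stMap S.cert S.hs (wSt C K i * torus S.cert S.hs c * (torus S.cert S.hs (act C i c) * wSt C K i)⁻¹) = 1 := by
    refine Subtype.ext ?_
    simp only [map_mul, map_inv, Subgroup.coe_mul, Subgroup.coe_inv, stMap_wSt, stMap_torus', P_HT_act,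
      mul_inv_cancel, OneMemClass.coe_one]
  obtain ⟨d, hd⟩ := stMap_ker_torus S.cert S.hs h6
  suffices d = 1 by rw [← hd, this, map_one]
  refine torus_eq_one S (M := M) (Subtype.ext ?_)
  have hgen : ∀ (r : Rt D) (t : K), (stMap S.cert' S.hs' (M.hom (D.stGen K r.val t)) : GL D'.Idx K) =
      C'.X K (M.f r) t := fun r t => by
    rw [ChevalleyDatum.stGen, M.hom_mk, M.free_stX, extN_val]
    exact stMap_gen' S.cert' S.hs' _ _
  have hw : (stMap S.cert' S.hs' (M.hom (wSt C K i)) : GL D'.Idx K) = C'.P K (M.e i) := by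
    simp only [wSt, map_mul, Subgroup.coe_mul, hgen, M.f_p, M.f_rev, Core.P, Core.nR]
    simp
  have hpad : M.pad (act C i c) = act C' (M.e i) (M.pad c) := by
    have key : C'.chA (M.pad c) (C'.p (M.e i)) = C.chA c (C.p i) := by
      let φ : (Fin D.rank → Kˣ) →* Kˣ :=
        { toFun := fun c => C'.chA (M.pad c) (C'.p (M.e i))
          map_one' := by simp [Core.chA]
          map_mul' := fun a b => by simp [Core.chA, mul_zpow, Finset.prod_mul_distrib] }
      let ψ : (Fin D.rank → Kˣ) →* Kˣ :=
        { toFun := fun c => C.chA c (C.p i)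
          map_one' := by simp [Core.chA]
          map_mul' := fun a b => by simp [Core.chA, mul_zpow, Finset.prod_mul_distrib] }
      refine DFunLike.congr_fun (?_ : φ = ψ) c
      refine MonoidHom.pi_ext fun j x => ?_
      show C'.chA (M.pad (Pi.mulSingle j x)) (C'.p (M.e i)) = C.chA (Pi.mulSingle j x) (C.p i)
      rw [M.pad_single, Core.chA, Core.chA, Finset.prod_eq_single (M.e j) (fun k _ hk => by simp [hk]) (by simp),
        Finset.prod_eq_single j (fun k _ hk => by simp [hk]) (by simp), Pi.mulSingle_eq_same, Pi.mulSingle_eq_same, hA]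
    rw [act, act, map_mul, M.pad_single, key]
  rw [hd]
  simp only [map_mul, map_inv, Subgroup.coe_mul, Subgroup.coe_inv, hw, M.hom_torus S.cert S.hs S.cert' S.hs',
    stMap_torus', hpad, P_HT_act, mul_inv_cancel, OneMemClass.coe_one]

/-- The preimage of a word. -/
theorem wL_torus : ∀ (L : List (Fin D.rank)) (c : Fin D.rank → Kˣ),
    (L.map (wSt C K)).prod * torus S.cert S.hs c = torus S.cert S.hs (actL C L c) * (L.map (wSt C K)).prod
  | [], c => by simp [actL]
  | i :: L, c => by
    rw [List.map_cons, List.prod_cons, mul_assoc, wL_torus L c, ← mul_assoc, wSt_torus S, mul_assoc]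
    rfl

/-- The exact equation of the preimage of an element over the ground field conjugate into the torus. -/
theorem exact_twist {F : Type v} [Field F] (cert0 : Cert.{v} C T) (f : F →+* K) (σ : K →+* K) (hσf : ∀ a, σ (f a) = f a)
    {g : GL D.Idx K} (hg : g ∈ D.group K) {y : GL D.Idx F} (hy : y ∈ D.group F) {e e1 : Fin D.rank → Kˣ}
    {L : List (Fin D.rank)} (he : g⁻¹ * Matrix.GeneralLinearGroup.map f y * g = C.HT K e)
    (hn : g⁻¹ * Matrix.GeneralLinearGroup.map σ g = C.HT K e1 * C.wprod K L) :
    ∃ e', C.HT K e' = C.HT K e ∧ actL C L (fun j => Units.map σ.toMonoidHom (e' j)) = e' := by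
  obtain ⟨gt, hgt⟩ := stMap_surj S.cert S.hs (⟨g, hg⟩ : ↥(D.group K))
  obtain ⟨yt, hyt⟩ := stMap_surj cert0 S.hs (⟨y, hy⟩ : ↥(D.group F))
  have hgt' : (stMap S.cert S.hs gt : GL D.Idx K) = g := congrArg Subtype.val hgt
  have hyt' : (stMap cert0 S.hs yt : GL D.Idx F) = y := congrArg Subtype.val hyt
  set Y' := gt⁻¹ * fmap f D yt * gt with hY'
  have hY : stMap S.cert S.hs Y' = stMap S.cert S.hs (torus S.cert S.hs e) := Subtype.ext (by
    rw [hY', stMap_torus', map_mul, map_mul, map_inv, Subgroup.coe_mul, Subgroup.coe_mul, Subgroup.coe_inv,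
      stMap_fmap f cert0 S.cert, hgt', hyt', he])
  obtain ⟨e', he'⟩ : ∃ e', torus S.cert S.hs e' = Y' := by
    obtain ⟨d, hd⟩ := stMap_ker_torus S.cert S.hs (x := Y' * (torus S.cert S.hs e)⁻¹) (by
      rw [map_mul, map_inv, hY, mul_inv_cancel])
    exact ⟨d * e, by rw [map_mul, hd, inv_mul_cancel_right]⟩
  refine ⟨e', ?_, ?_⟩
  · rw [← stMap_torus' S.cert S.hs, ← stMap_torus' S.cert S.hs, he', hY]
  have hσY : fmap σ D (fmap f D yt) = fmap f D yt := by
    refine DFunLike.congr_fun (?_ : (fmap σ D).comp (fmap f D) = fmap f D) yt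
    refine PresentedGroup.ext fun ⟨r, t⟩ => ?_
    have e : D.stGen F r.val t = PresentedGroup.of (r, t) := by
      simp [ChevalleyDatum.stGen, ChevalleyDatum.stX, PresentedGroup.of]
    rw [← e, MonoidHom.comp_apply, fmap_gen, fmap_gen, hσf]
  set nt := gt⁻¹ * fmap σ D gt with hnt
  set wt := torus S.cert S.hs e1 * (L.map (wSt C K)).prod with hwt
  have hwl : ∀ L : List (Fin D.rank), (stMap S.cert S.hs (L.map (wSt C K)).prod : GL D.Idx K) = C.wprod K L := by
    intro L
    induction L with
    | nil => simp [Core.wprod]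
    | cons i L ih => rw [List.map_cons, List.prod_cons, map_mul, Subgroup.coe_mul, ih, stMap_wSt, C.wprod_cons]
  have hz : wt⁻¹ * nt ∈ Subgroup.center (D.SteinbergGroup K) := by
    rw [← stMap_ker S.cert S.hs, MonoidHom.mem_ker, map_mul, map_inv, inv_mul_eq_one]
    refine Subtype.ext ?_
    rw [hnt, hwt, map_mul, map_mul, map_inv, Subgroup.coe_mul, Subgroup.coe_mul, Subgroup.coe_inv, stMap_fmap σ S.cert S.cert,
      hgt', hn, stMap_torus', hwl]
  set e'σ : Fin D.rank → Kˣ := fun j => Units.map σ.toMonoidHom (e' j) with he'σ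
  have h1 : nt * torus S.cert S.hs e'σ = torus S.cert S.hs e' * nt := by
    rw [he'σ, ← fmap_torus σ S.cert S.cert S.hs, he', hY', hnt, map_mul, map_mul, map_inv, hσY]
    group
  rw [show nt = wt * (wt⁻¹ * nt) by group, mul_assoc wt, ← Subgroup.mem_center_iff.1 hz, ← mul_assoc,
    ← mul_assoc (torus S.cert S.hs e')] at h1
  have h2 : wt * torus S.cert S.hs e'σ = torus S.cert S.hs e' * wt := mul_right_cancel h1
  rw [hwt, mul_assoc, wL_torus S, ← mul_assoc, ← mul_assoc, ← map_mul, ← map_mul] at h2
  have h3 := torus_inj S (mul_right_cancel h2)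
  rw [mul_comm e' e1] at h3
  exact mul_left_cancel h3

end Cfsg.Agent.Lib.ChevStructure.RegTorusSix.Lift
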