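import Cfsg.Agent.Lib.ChevStructure.RegTorusSix.Lattice
import Cfsg.Agent.Lib.ChevStructure.RegTorusSix.Lift
import Cfsg.Agent.Lib.ChevStructure.RegTorusSix.Fixed
import Cfsg.Agent.Lib.CurtisTits.CenterE

/-!
Torus parameters of type E₆ in additive coordinates.
-/

set_option autoImplicit false
set_option maxRecDepth 100000
set_option linter.unusedSectionVars false

namespace Cfsg.Agent.Lib.ChevStructure.RegTorusSix

open Cfsg.Lie
open Cfsg.Agent.Lib.ChevStructure.RegTorus
open scoped Matrix MatrixGroups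

universe u

local notation "I6" => Fin chevE6.rank

/-- three times the inverse of the Cartan matrix -/
def invC : List (List ℤ) :=
  [[4, 3, 5, 6, 4, 2], [3, 6, 6, 9, 6, 3], [5, 6, 10, 12, 8, 4], [6, 9, 12, 18, 12, 6], [4, 6, 8, 12, 10, 5],
    [2, 3, 4, 6, 5, 4]]

theorem invC_amat : amat * matL chevE6.rank invC = Matrix.diagonal fun _ => (3 : ℤ) := by decide +kernel

theorem invC_ok : ChevFixed.InvCartan chevE6 3 invC := by
  intro j k
  have h := congrFun (congrFun invC_amat j) k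
  rw [Matrix.mul_apply, Matrix.diagonal_apply] at h
  have hsymm : ∀ m, (matL chevE6.rank invC) m k = (invC.getD k.val []).getD m.val 0 := by
    have hs : (matL chevE6.rank invC)ᵀ = matL chevE6.rank invC := by decide +kernel
    intro m
    conv_lhs => rw [← hs]
    rfl
  simp only [hsymm] at h
  rw [show ((3 : ℕ) : ℤ) = 3 from rfl, ← h]
  refine Finset.sum_congr rfl fun m _ => ?_
  rw [← A_eq, C.simple_eq]
  rfl

theorem embE6_cartan : ∀ j i, A chevE8 (Fin.castLE CurtisTits.rank_E6_le j) (Cert.E8.core.p (Fin.castLE CurtisTits.rank_E6_le i))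
    = A chevE6 j (C.p i) := by
  decide +kernel

/-- Type E₆ inside type E₈. -/
theorem ambient : Lift.Ambient.{u} C (CurtisTits.mkTree Cert.E6.core CurtisTits.Data.E6.words CurtisTits.CertE6.tree)
    Cert.E8.core (CurtisTits.mkTree Cert.E8.core CurtisTits.Data.E8.words CurtisTits.CertE8.tree) where
  cert := CurtisTits.CertE6.cert
  hs := CurtisTits.suppOne_E6
  cert' := CurtisTits.CertE8.cert
  hs' := CurtisTits.suppOne_E8
  emb := ⟨CurtisTits.embE6, embE6_cartan⟩
  inv := ⟨CurtisTits.invE8, CurtisTits.invE8_ok⟩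

section

variable {G : Type*} [CommGroup G] {R : Type*} [CommRing R]

theorem hom_prod_zpow (φ : G →* Multiplicative R) (c : I6 → G) (e : I6 → ℤ) :
    Multiplicative.toAdd (φ (∏ j, c j ^ e j)) = ∑ j, (e j : R) * Multiplicative.toAdd (φ (c j)) := by
  rw [map_prod, toAdd_prod]
  refine Finset.sum_congr rfl fun j _ => ?_
  rw [map_zpow, toAdd_zpow, zsmul_eq_mul]

end

variable {K : Type*} [Field K] {R : Type*} [CommRing R] (φ : Kˣ →* Multiplicative R)

/-- additive coordinates -/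
def co6 (c : I6 → Kˣ) : I6 → R := fun j => Multiplicative.toAdd (φ (c j))

/-- the additive values at the fundamental roots -/
noncomputable def cd6 (c : I6 → Kˣ) : I6 → R := fun k => Multiplicative.toAdd (φ (C.chA c (C.p k)))

theorem cd6_eq (c : I6 → Kˣ) : cd6 φ c = amat.map (Int.cast : ℤ → R) *ᵥ co6 φ c := by
  funext k
  rw [cd6, Core.chA, hom_prod_zpow]
  simp only [Matrix.mulVec, dotProduct, Matrix.map_apply, co6]
  refine Finset.sum_congr rfl fun j _ => ?_
  rw [A_eq, ← congrFun (congrFun amat_symm k) j]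
  rfl

theorem chA_ev (c : I6 → Kˣ) (y : Rt chevE6) : Multiplicative.toAdd (φ (C.chA c y)) = ev C (cd6 φ c) y := by
  rw [← C.chr_chA, Core.chr, hom_prod_zpow, ev, dotProduct]
  exact Finset.sum_congr rfl fun k _ => mul_comm _ _

theorem co6_act (i : I6) (c : I6 → Kˣ) :
    co6 φ (Lift.act C i c) = (srefMat (fun j k => amat j k) i).map (Int.cast : ℤ → R) *ᵥ co6 φ c := by
  funext m
  have hci := congrFun (cd6_eq φ c) i
  simp only [cd6, Matrix.mulVec, dotProduct, Matrix.map_apply] at hci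
  simp only [co6, Lift.act, Pi.mul_apply, map_mul, toAdd_mul, Matrix.mulVec, dotProduct, Matrix.map_apply, srefMat,
    Matrix.of_apply, Int.cast_sub, sub_mul, Finset.sum_sub_distrib]
  rw [sub_eq_add_neg]
  congr 1
  · rw [Finset.sum_eq_single m (fun k _ hk => by simp [Ne.symm hk]) (by simp), if_pos rfl, Int.cast_one, one_mul]
  · by_cases hmi : m = i
    · subst hmi
      rw [Pi.mulSingle_eq_same, map_inv, toAdd_inv, hci]
      simp [co6]
    · simp [hmi]

theorem co6_actL : ∀ (L : List I6) (c : I6 → Kˣ),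
    co6 φ (Lift.actL C L c) = (mat C (C.pprod L)).map (Int.cast : ℤ → R) *ᵥ co6 φ c
  | [], c => by rw [C.pprod_nil, mat_one, Matrix.map_one _ Int.cast_zero Int.cast_one, Matrix.one_mulVec]; rfl
  | i :: L, c => by
    rw [Lift.actL, co6_act, co6_actL L c, C.pprod_cons, mat_mul C (Subgroup.subset_closure ⟨i, rfl⟩), mat_sref,
      funext fun j => funext (A_eq j), map_mul', Matrix.mulVec_mulVec]

/-- A vector killed by three is a multiple of N/3. -/
theorem exists_lift_three {N : ℕ} [NeZero N] (h3 : 3 ∣ N) : ∃ h : ZMod 3 →+ ZMod N, Function.Injective h ∧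
    ∀ x : ZMod N, (3 : ZMod N) * x = 0 → ∃ a, h a = x := by
  obtain ⟨t, ht⟩ := h3
  have hN := NeZero.ne N
  have ht0 : 0 < t := Nat.pos_of_ne_zero fun e => hN (by rw [ht, e, mul_zero])
  refine ⟨ZMod.lift 3 ⟨zmultiplesHom (ZMod N) (t : ZMod N), ?_⟩, ?_, ?_⟩
  · show ((3 : ℕ) : ℤ) • (t : ZMod N) = 0
    rw [natCast_zsmul, nsmul_eq_mul, ← Nat.cast_mul, ← ht, ZMod.natCast_self]
  · rw [injective_iff_map_eq_zero]
    intro a ha
    rw [← ZMod.natCast_zmod_val a] at ha ⊢
    rw [show ((a.val : ℕ) : ZMod 3) = ((a.val : ℤ) : ZMod 3) by rw [Int.cast_natCast], ZMod.lift_coe] at ha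
    change ((a.val : ℤ)) • (t : ZMod N) = 0 at ha
    rw [natCast_zsmul, nsmul_eq_mul, ← Nat.cast_mul, ZMod.natCast_eq_zero_iff, ht] at ha
    have := Nat.eq_zero_of_dvd_of_lt (Nat.dvd_of_mul_dvd_mul_right ht0 ha) a.val_lt
    rw [this, Nat.cast_zero]
  · intro x hx
    rw [← ZMod.natCast_zmod_val x, show (3 : ZMod N) = ((3 : ℕ) : ZMod N) from rfl, ← Nat.cast_mul,
      ZMod.natCast_eq_zero_iff] at hx
    have hx' : 3 * t ∣ 3 * x.val := by rw [← ht]; exact hx
    obtain ⟨k, hk⟩ := Nat.dvd_of_mul_dvd_mul_left (by norm_num) hx'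
    refine ⟨((k : ℤ) : ZMod 3), ?_⟩
    rw [ZMod.lift_coe]
    show ((k : ℕ) : ℤ) • (t : ZMod N) = x
    rw [natCast_zsmul, nsmul_eq_mul, ← Nat.cast_mul, mul_comm, ← hk, ZMod.natCast_zmod_val]

theorem map_mulVec_hom {N : ℕ} (h : ZMod 3 →+ ZMod N) (X : Matrix I6 I6 ℤ) (w : I6 → ZMod 3) :
    (fun k => h ((X.map (Int.cast : ℤ → ZMod 3) *ᵥ w) k)) = X.map (Int.cast : ℤ → ZMod N) *ᵥ fun k => h (w k) := by
  funext k
  simp only [Matrix.mulVec, dotProduct, Matrix.map_apply, map_sum]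
  exact Finset.sum_congr rfl fun j _ => by rw [← zsmul_eq_mul, ← zsmul_eq_mul, map_zsmul]

end Cfsg.Agent.Lib.ChevStructure.RegTorusSix
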