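import Cfsg.Agent.Lib.ChevStructure.RegTorusSix.Lattice
import Cfsg.Agent.Lib.ChevStructure.Order.CertE6
import Cfsg.Agent.Lib.ChevStructure.RegTorus.Main
import Mathlib.FieldTheory.Finite.Basic

/-!
The arithmetic of q⁴ − q² + 1 and (q⁴ − q² + 1)(q² + q + 1)/gcd(3, q − 1), and the orders needed to place a
Sylow subgroup for a prime divisor of the first in the diagonal subgroup over the field of degree 12.
-/

set_option autoImplicit false
set_option maxRecDepth 100000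
set_option linter.unusedSectionVars false

namespace Cfsg.Agent.Lib.ChevStructure.RegTorusSix

open Cfsg.Lie
open Cfsg.Agent.Lib.ChevStructure.RegTorus

/-- (q⁴ − q² + 1)(q² + q + 1) -/
def M0 (q : ℕ) : ℕ := (q ^ 4 - q ^ 2 + 1) * (q ^ 2 + q + 1)

/-- the order of the subgroup -/
def m0 (q : ℕ) : ℕ := M0 q / Nat.gcd 3 (q - 1)

theorem cast_phi {R : Type*} [CommRing R] (q : ℕ) :
    ((q ^ 4 - q ^ 2 + 1 : ℕ) : R) = (q : R) ^ 4 - (q : R) ^ 2 + 1 := by
  have h : q ^ 2 ≤ q ^ 4 := by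
    rcases Nat.eq_zero_or_pos q with rfl | h
    · simp
    · exact Nat.pow_le_pow_right h (by norm_num)
  rw [Nat.cast_add, Nat.cast_sub h]
  push_cast
  ring

theorem cast_M0 {R : Type*} [CommRing R] (q : ℕ) : (M0 q : R) = m6 (q : R) := by
  rw [M0, Nat.cast_mul, cast_phi, m6]
  push_cast
  ring

/-- the facts about a prime divisor of q⁴ − q² + 1 -/
structure Prm (q r : ℕ) : Prop where
  prime : r.Prime
  ge : 13 ≤ r
  dvd : r ∣ q ^ 4 - q ^ 2 + 1
  ord : orderOf (q : ZMod r) = 12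

theorem phi_two : ∀ x : ZMod 2, x ^ 4 - x ^ 2 + 1 ≠ 0 := by decide

theorem phi_three : ∀ x : ZMod 3, x ^ 4 - x ^ 2 + 1 ≠ 0 := by decide

theorem exists_prm {q : ℕ} (hq : 2 ≤ q) : ∃ r, Prm q r := by
  have hlt : q ^ 2 < q ^ 4 := Nat.pow_lt_pow_right (by omega) (by norm_num)
  obtain ⟨r, hr, hrd⟩ := Nat.exists_prime_and_dvd (n := q ^ 4 - q ^ 2 + 1) (by omega)
  haveI : Fact r.Prime := ⟨hr⟩
  refine ⟨r, hr, ?_, hrd, ?_⟩ <;>
  · have h0 : (q : ZMod r) ^ 4 - (q : ZMod r) ^ 2 + 1 = 0 := by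
      rw [← cast_phi, (ZMod.natCast_eq_zero_iff _ r).2 hrd]
    have hr2 : r ≠ 2 := by
      rintro rfl
      exact phi_two _ h0
    have hr3 : r ≠ 3 := by
      rintro rfl
      exact phi_three _ h0
    have h6 : (q : ZMod r) ^ 6 = -1 := by linear_combination ((q : ZMod r) ^ 2 + 1) * h0
    have h12 : (q : ZMod r) ^ 12 = 1 := by linear_combination ((q : ZMod r) ^ 6 - 1) * h6
    have hn : ∀ p : ℕ, p.Prime → p ≠ r → ((p : ℕ) : ZMod r) ≠ 0 := fun p hp hne h =>
      hne ((Nat.prime_dvd_prime_iff_eq hr hp).1 ((ZMod.natCast_eq_zero_iff p r).1 h)).symm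
    have h6' : (q : ZMod r) ^ 6 ≠ 1 := fun h => hn 2 Nat.prime_two (Ne.symm hr2) (by
      push_cast; linear_combination h6 - h)
    have h4' : (q : ZMod r) ^ 4 ≠ 1 := fun h => hn 3 Nat.prime_three (Ne.symm hr3) (by
      push_cast
      linear_combination ((q : ZMod r) ^ 2 + 2) * (h0 - h) + h)
    have hord : orderOf (q : ZMod r) = 12 := by
      have hdvd := orderOf_dvd_of_pow_eq_one h12
      have hle := Nat.le_of_dvd (by norm_num) hdvd
      have hp := pow_orderOf_eq_one (q : ZMod r)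
      have hpos : 0 < orderOf (q : ZMod r) := Nat.pos_of_dvd_of_pos hdvd (by norm_num)
      have hn6 : ¬ orderOf (q : ZMod r) ∣ 6 := fun h => h6' (orderOf_dvd_iff_pow_eq_one.1 h)
      have hn4 : ¬ orderOf (q : ZMod r) ∣ 4 := fun h => h4' (orderOf_dvd_iff_pow_eq_one.1 h)
      generalize orderOf (q : ZMod r) = k at hdvd hle hn6 hn4 hpos
      interval_cases k <;> omega
    first
    | exact hord
    | have hne : (q : ZMod r) ≠ 0 := fun h => by rw [h] at h12; simp at h12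
      have h1 := ZMod.orderOf_dvd_card_sub_one hne
      rw [hord] at h1
      have := Nat.le_of_dvd (by have := hr.two_le; omega) h1
      omega

theorem Prm.phi {q r : ℕ} (h : Prm q r) : ((q : ℤ) : ZMod r) ^ 4 - ((q : ℤ) : ZMod r) ^ 2 + 1 = 0 := by
  rw [Int.cast_natCast, ← cast_phi, (ZMod.natCast_eq_zero_iff _ r).2 h.dvd]

theorem Prm.dvd_pow {q r : ℕ} (h : Prm q r) (hq : 1 ≤ q) : r ∣ q ^ 12 - 1 := by
  rw [← ZMod.natCast_eq_zero_iff, Nat.cast_sub (Nat.one_le_pow _ _ hq), Nat.cast_pow, ← h.ord,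
    pow_orderOf_eq_one, Nat.cast_one, sub_self]

theorem gcd_prod_dvd (n : ℕ) :
    (∏ i : Fin chevE6.rank, Nat.gcd n (Order.DataTorus.dE6.getD i.val 0)) ∣ 3 := by
  have h : ∀ i : Fin chevE6.rank, Order.DataTorus.dE6.getD i.val 0 = if i.val = 5 then 3 else 1 := by
    decide +kernel
  simp only [h]
  rw [sum_six_prod]
  exact Nat.gcd_dvd_right _ _
where
  sum_six_prod : (∏ i : Fin chevE6.rank, Nat.gcd n (if i.val = 5 then 3 else 1)) = Nat.gcd n 3 := by
    rw [Finset.prod_eq_single (ix 5 (by omega))]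
    · simp [ix]
    · intro i _ hi
      have : i.val ≠ 5 := fun h => hi (Fin.ext h)
      simp [this]
    · simp

theorem Prm.not_dvd_gcd {q r : ℕ} (h : Prm q r) (n : ℕ) :
    ¬ r ∣ ∏ i : Fin chevE6.rank, Nat.gcd n (Order.DataTorus.dE6.getD i.val 0) := fun hd => by
  have := Nat.le_of_dvd (by norm_num) (hd.trans (gcd_prod_dvd n))
  have := h.ge
  omega

theorem Prm.dvd_card {F : Type*} [Field F] [Fintype F] {q r : ℕ} (hF : Fintype.card F = q) (h : Prm q r) :
    r ∣ Nat.card (chevE6.group F) := by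
  have hc := Order.CertE6.card_group (K := F) hF
  have h1 : r ∣ q ^ (chevE6.nroots / 2) * (([2, 5, 6, 8, 9, 12] : List ℕ).map fun d => q ^ d - 1).prod :=
    Dvd.dvd.mul_left ((h.dvd_pow (hF ▸ Fintype.card_pos)).trans (List.dvd_prod (by simp))) _
  rw [← hc] at h1
  exact (h.prime.dvd_mul.1 h1).resolve_left (h.not_dvd_gcd _)

theorem Prm.factorization_eq {K : Type*} [Field K] [Fintype K] {q r : ℕ} (hq : 1 < q)
    (hK : Fintype.card K = q ^ 12) (h : Prm q r) :
    (Nat.card (chevE6.group K)).factorization r = (Nat.card (chevE6.diagonalSubgroup K)).factorization r := by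
  haveI : Fact r.Prime := ⟨h.prime⟩
  set Q := q ^ 12
  have hQ2 : 2 ≤ Q := Nat.one_lt_pow (by norm_num) hq
  have hrQ : r ∣ Q - 1 := h.dvd_pow hq.le
  have hG := Order.CertE6.card_group (K := K) hK
  have hT := Order.CertE6.card_diagonal (K := K) hK
  obtain ⟨h0, hf⟩ := RegTorus.factorization_prod hQ2 hrQ [2, 5, 6, 8, 9, 12] (fun e he => by
    have := h.ge
    refine ⟨fun hd => ?_, by fin_cases he <;> norm_num⟩
    fin_cases he <;> have := Nat.le_of_dvd (by norm_num) hd <;> omega)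
  have hg0 : (∏ i : Fin chevE6.rank, Nat.gcd (Q - 1) (Order.DataTorus.dE6.getD i.val 0)) ≠ 0 := fun e =>
    h.not_dvd_gcd (Q - 1) (e ▸ dvd_zero r)
  have hgz : (∏ i : Fin chevE6.rank, Nat.gcd (Q - 1) (Order.DataTorus.dE6.getD i.val 0)).factorization r = 0 :=
    Nat.factorization_eq_zero_of_not_dvd (h.not_dvd_gcd _)
  have e1 := congrArg (fun n => n.factorization r) hG
  have e2 := congrArg (fun n => n.factorization r) hT
  rw [Nat.factorization_mul hg0 Nat.card_pos.ne', Nat.factorization_mul (pow_ne_zero _ (by omega)) h0,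
    Finsupp.add_apply, Finsupp.add_apply, hgz, hf, Nat.factorization_pow, Finsupp.smul_apply, smul_eq_mul] at e1
  rw [Nat.factorization_mul hg0 Nat.card_pos.ne', Finsupp.add_apply, hgz, Nat.factorization_pow,
    Finsupp.smul_apply, smul_eq_mul] at e2
  have e2' := e2.trans (congrArg (fun n => n * (Q - 1).factorization r) rank_eq)
  have hQr : Q.factorization r = 0 := Nat.factorization_eq_zero_of_not_dvd fun hd => by
    have := Nat.dvd_sub hd hrQ
    rw [show Q - (Q - 1) = 1 by omega] at this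
    exact h.prime.one_lt.ne' (Nat.dvd_one.1 this)
  rw [hQr, mul_zero] at e1
  simp only [List.length_cons, List.length_nil] at e1
  omega

theorem m0_facts (q : ℕ) (hq : 1 ≤ q) :
    m0 q % 3 = 1 ∧ m0 q * Nat.gcd 3 (q - 1) = M0 q ∧ (Nat.gcd 3 (q - 1) = 1 ∨ (q % 3 = 1 ∧ Nat.gcd 3 (q - 1) = 3)) := by
  have hg : Nat.gcd 3 (q - 1) = if q % 3 = 1 then 3 else 1 := by
    split_ifs with h
    · exact Nat.gcd_eq_left (by omega)
    · rcases (Nat.dvd_prime Nat.prime_three).1 (Nat.gcd_dvd_left 3 (q - 1)) with h1 | h1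
      · exact h1
      · have := h1 ▸ Nat.gcd_dvd_right 3 (q - 1)
        omega
  have hphi : (q ^ 4 - q ^ 2 + 1) % 3 = 1 := by
    have hle : q ^ 2 ≤ q ^ 4 := Nat.pow_le_pow_right hq (by norm_num)
    have h1 : q ^ 4 % 3 = q ^ 2 % 3 := by
      rw [Nat.pow_mod, Nat.pow_mod q 2]
      have : q % 3 < 3 := Nat.mod_lt _ (by norm_num)
      interval_cases q % 3 <;> rfl
    omega
  by_cases h : q % 3 = 1
  · rw [if_pos h] at hg
    obtain ⟨t, rfl⟩ : ∃ t, q = 3 * t + 1 := ⟨q / 3, by omega⟩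
    have e : (3 * t + 1) ^ 2 + (3 * t + 1) + 1 = 3 * (3 * t ^ 2 + 3 * t + 1) := by ring
    have hm : m0 (3 * t + 1) = ((3 * t + 1) ^ 4 - (3 * t + 1) ^ 2 + 1) * (3 * t ^ 2 + 3 * t + 1) := by
      rw [m0, hg, M0, e, show ∀ a b : ℕ, a * (3 * b) = 3 * (a * b) from fun a b => by ring,
        Nat.mul_div_cancel_left _ (by norm_num)]
    refine ⟨?_, ?_, Or.inr ⟨h, hg⟩⟩
    · rw [hm, Nat.mul_mod, hphi, one_mul, Nat.mod_mod]
      omega
    · rw [hm, hg, M0, e]; ring
  · rw [if_neg h] at hg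
    refine ⟨?_, by rw [m0, hg, Nat.div_one, mul_one], Or.inl hg⟩
    rw [m0, hg, Nat.div_one, M0, Nat.mul_mod, hphi, one_mul, Nat.mod_mod, Nat.add_mod, Nat.add_mod (q ^ 2),
      Nat.pow_mod]
    have : q % 3 < 3 := Nat.mod_lt _ (by norm_num)
    interval_cases q % 3 <;> first | rfl | omega

theorem m0_dvd_pow (q : ℕ) (hq : 1 ≤ q) : m0 q ∣ q ^ 12 - 1 := by
  refine (Dvd.intro (Nat.gcd 3 (q - 1)) (m0_facts q hq).2.1).trans ?_
  rw [← Int.natCast_dvd_natCast, Nat.cast_sub (Nat.one_le_pow _ _ hq), Nat.cast_pow, Nat.cast_one, cast_M0, m6]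
  exact Dvd.intro (((q : ℤ) ^ 4 - 1) * ((q : ℤ) ^ 2 - q + 1)) (by ring)

end Cfsg.Agent.Lib.ChevStructure.RegTorusSix
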