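import Cfsg.Agent.Lib.ChevStructure.RegTorusSix.Search

/-! Kernel certificates of the search. -/

set_option autoImplicit false
set_option maxRecDepth 100000

namespace Cfsg.Agent.Lib.ChevStructure.RegTorusSix

theorem red_all : allLt 72 (redOK 30) = true := by decide +kernel
theorem search_0 : search 0 = true := by decide +kernel
theorem search_1 : search 1 = true := by decide +kernel
theorem search_11 : search 11 = true := by decide +kernel
theorem search_46 : search 46 = true := by decide +kernel
theorem search_71 : search 71 = true := by decide +kernel

end Cfsg.Agent.Lib.ChevStructure.RegTorusSix
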