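import Cfsg.Agent.Lib.ChevStructure.RegTorusSix.Arith
import Cfsg.Agent.Lib.ChevStructure.RegTorusSix.Coords
import Cfsg.Agent.Lib.ChevStructure.G2Torus.Regular
import Mathlib.FieldTheory.Finite.Extension
import Mathlib.GroupTheory.Sylow
import Mathlib.GroupTheory.SpecificGroups.Cyclic

/-!
E₆(q) has a self-centralising cyclic subgroup of order (q⁴ − q² + 1)(q² + q + 1)/gcd(3, q − 1): the centraliser of
an element whose order is a prime divisor of q⁴ − q² + 1.
-/

set_option autoImplicit false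
set_option maxRecDepth 100000
set_option maxHeartbeats 800000
set_option linter.unusedSectionVars false

namespace Cfsg.Agent.Lib.ChevStructure.RegTorusSix

open Cfsg.Lie
open Cfsg.Agent.Lib.ChevStructure.RegTorus
open scoped MatrixGroups Matrix

universe u

local notation "I6" => Fin chevE6.rank

theorem commOK : CommOK C := Cert.E6.core.commOK_mild mildE6

theorem chA_pow {K : Type*} [CommRing K] (e : I6 → Kˣ) (k : ℕ) (y : Rt chevE6) :
    C.chA (e ^ k) y = C.chA e y ^ k := by
  simp only [Core.chA, Pi.pow_apply, ← zpow_natCast, ← Finset.prod_zpow, ← zpow_mul, mul_comm]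

theorem chA_one' {K : Type*} [CommRing K] (y : Rt chevE6) : C.chA (1 : I6 → Kˣ) y = 1 := by simp [Core.chA]

theorem chA_of_HT {K : Type*} [Field K] {c c' : I6 → Kˣ} (h : C.HT K c = C.HT K c') (y : Rt chevE6) :
    C.chA c y = C.chA c' y := congrFun (C.diag_inj K h) y

theorem HT_pow {K : Type*} [Field K] (c : I6 → Kˣ) (k : ℕ) : C.HT K (c ^ k) = C.HT K c ^ k :=
  map_pow (C.HThom K) c k

/-- Every character is, up to a cube, that of a torus element. -/
theorem exists_cube {K : Type*} [Field K] (χ : I6 → Kˣ) :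
    ∃ e : I6 → Kˣ, ∀ k, C.chA e (C.p k) = χ k ^ 3 := by
  refine ⟨fun j => ∏ m, χ m ^ (matL chevE6.rank invC) j m, fun k => ?_⟩
  simp only [Core.chA, ← Finset.prod_zpow, ← zpow_mul]
  rw [Finset.prod_comm]
  simp only [← C.zpow_fsum]
  have h : ∀ m, ∑ j, (matL chevE6.rank invC) j m * A chevE6 j (C.p k) = if k = m then 3 else 0 := by
    intro m
    have h := congrFun (congrFun invC_amat k) m
    rw [Matrix.mul_apply, Matrix.diagonal_apply] at h
    rw [← h]
    refine Finset.sum_congr rfl fun j _ => ?_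
    rw [A_eq, ← congrFun (congrFun amat_symm k) j, mul_comm]
    rfl
  simp only [h]
  rw [Finset.prod_eq_single k (fun m _ hm => by rw [if_neg (Ne.symm hm), zpow_zero]) (by simp), if_pos rfl]
  norm_cast

theorem v_small {r : ℕ} (hr : 13 ≤ r) (x : Rt chevE6) (k : I6) : |C.v x k| < r := by
  have h := allLt_iff.1 key_table _ (val_lt x)
  simp only [Bool.and_eq_true, allLt_iff, decide_eq_true_eq] at h
  obtain ⟨l, u⟩ := h.2 k.val (lt_of_lt_of_eq k.isLt rank_eq)
  rw [v_eq, vv, abs_lt]
  omega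

/-- The centraliser of an element of order r. -/
theorem exists_torus {F : Type u} [Field F] [Fintype F] {q r : ℕ} (hq : Fintype.card F = q) (S : Prm q r) :
    ∃ H : Subgroup ↥(chevE6.group F), IsCyclic ↥H ∧ Nat.card ↥H = m0 q ∧
      Subgroup.centralizer (H : Set ↥(chevE6.group F)) = H := by
  classical
  haveI hrp : Fact r.Prime := ⟨S.prime⟩
  have H := commOK
  obtain ⟨p, hp⟩ := CharP.exists F
  haveI : Fact p.Prime := ⟨CharP.char_is_prime F p⟩
  let K := FiniteField.Extension F p 12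
  haveI : Finite K := Module.finite_of_finite F
  letI : Fintype K := Fintype.ofFinite K
  have hq1 : 1 < q := hq ▸ Fintype.one_lt_card
  obtain ⟨hm3, hmg, hgcases⟩ := m0_facts q hq1.le
  set Q := q ^ 12 with hQ
  have hK : Fintype.card K = Q := by
    rw [← Nat.card_eq_fintype_card, FiniteField.natCard_extension, Nat.card_eq_fintype_card, hq]
  have hQ2 : 2 ≤ Q := Nat.one_lt_pow (by norm_num) hq1
  let f := algebraMap F K
  let σ : K →+* K := (FiniteField.Extension.frob F p 12).toAlgHom.toRingHom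
  have hσ : ∀ x : K, σ x = x ^ q := fun x => by
    rw [← hq, ← Nat.card_eq_fintype_card]; exact FiniteField.Extension.frob_apply F p 12
  have hσf : ∀ a : F, σ (f a) = f a := fun a => AlgEquiv.commutes _ a
  have hfixed : ∀ x : K, σ x = x → ∃ a : F, f a = x := by
    intro x hx
    by_contra hne
    push Not at hne
    have hdeg : (Polynomial.X ^ q - Polynomial.X : Polynomial K).natDegree = q :=
      FiniteField.X_pow_card_sub_X_natDegree_eq K hq1
    have hP : (Polynomial.X ^ q - Polynomial.X : Polynomial K) ≠ 0 := fun h => by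
      rw [h, Polynomial.natDegree_zero] at hdeg; omega
    have hsub : insert x (Finset.univ.image f) ⊆
        (Polynomial.X ^ q - Polynomial.X : Polynomial K).roots.toFinset := by
      intro y hy
      have hy' : y ^ q = y := by
        rw [← hσ]
        rcases Finset.mem_insert.1 hy with rfl | hy
        · exact hx
        · obtain ⟨a, -, rfl⟩ := Finset.mem_image.1 hy; exact hσf a
      rw [Multiset.mem_toFinset, Polynomial.mem_roots hP]
      simp [hy']
    have h1 := (Finset.card_le_card hsub).trans ((Multiset.toFinset_card_le _).trans (Polynomial.card_roots' _))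
    rw [Finset.card_insert_of_notMem (by simpa [f] using hne),
      Finset.card_image_of_injective _ f.injective, Finset.card_univ, hq, hdeg] at h1
    omega
  have hrQ : r ∣ Q - 1 := S.dvd_pow hq1.le
  -- a Sylow subgroup inside the torus
  set G := chevE6.group K with hG
  let T := chevE6.diagonalSubgroup K
  let PT : Sylow r ↥T := default
  let SS : Subgroup (GL chevE6.Idx K) := (PT : Subgroup ↥T).map T.subtype
  have hSST : SS ≤ T := Subgroup.map_subtype_le _
  have hSSG : SS ≤ G := hSST.trans C.diagonal_le_group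
  have hfac : (Nat.card ↥G).factorization r = (Nat.card ↥T).factorization r := S.factorization_eq hq1 hK
  have hcSS : Nat.card ↥(SS.subgroupOf G) = r ^ (Nat.card ↥G).factorization r := by
    rw [Nat.card_congr (Subgroup.subgroupOfEquivOfLe hSSG).toEquiv, hfac,
      Subgroup.card_map_of_injective T.subtype_injective]
    exact PT.card_eq_multiplicity
  let P0 : Sylow r ↥G := Sylow.ofCard (SS.subgroupOf G) hcSS
  have hTcomm : ∀ a ∈ T, ∀ b ∈ T, a * b = b * a := by
    intro a ha b hb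
    obtain ⟨c, rfl⟩ := C.mem_diagonal_iff.1 ha
    obtain ⟨c', rfl⟩ := C.mem_diagonal_iff.1 hb
    rw [C.HT_mul, C.HT_mul, mul_comm]
  have hmemSS : ∀ c : I6 → Kˣ, C.HT K c ^ r = 1 → C.HT K c ∈ SS := by
    intro c hc
    let t : ↥T := ⟨C.HT K c, C.HT_mem_diagonal c⟩
    haveI : IsMulCommutative ↥T := ⟨⟨fun a b => Subtype.ext (hTcomm _ a.2 _ b.2)⟩⟩
    have hpg : IsPGroup r (Subgroup.zpowers t) := by
      intro u
      refine ⟨1, ?_⟩
      obtain ⟨i, hi⟩ := u.2
      apply Subtype.ext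
      rw [SubmonoidClass.coe_pow, ← hi, pow_one, OneMemClass.coe_one]
      show (t ^ i) ^ r = 1
      rw [← zpow_natCast, ← zpow_mul, mul_comm, zpow_mul, zpow_natCast, show t ^ r = 1 from Subtype.ext hc, one_zpow]
    obtain ⟨P', hP'⟩ := hpg.exists_le_sylow
    haveI : (PT : Subgroup ↥T).Normal := ⟨fun a ha b => by
      rwa [show b * a * b⁻¹ = a by rw [Subtype.ext (hTcomm _ b.2 _ a.2) (a1 := b * a) (a2 := a * b),
        mul_inv_cancel_right]]⟩
    haveI := Sylow.unique_of_normal PT inferInstance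
    exact ⟨t, Subsingleton.elim P' PT ▸ hP' (Subgroup.mem_zpowers t), rfl⟩
  -- the element and its conjugate in the torus
  obtain ⟨x, hx⟩ := exists_prime_orderOf_dvd_card' r (S.dvd_card hq)
  let mg := Matrix.GeneralLinearGroup.map (n := chevE6.Idx) f
  have hmginj : Function.Injective mg := ChevFixed.map_injective (f := f) f.injective
  let X : ↥G := ⟨mg (x : GL chevE6.Idx F), ChevFixed.map_group_le C f ⟨_, x.2, rfl⟩⟩
  have hXo : orderOf X = r := by
    rw [← Subgroup.orderOf_coe, ← hx, ← Subgroup.orderOf_coe x]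
    exact orderOf_injective mg hmginj _
  have hpg : IsPGroup r (Subgroup.zpowers X) := IsPGroup.of_card (n := 1) (by rw [Nat.card_zpowers, hXo, pow_one])
  obtain ⟨P1, hP1⟩ := hpg.exists_le_sylow
  obtain ⟨g0, hg0⟩ := MulAction.exists_smul_eq ↥G P1 P0
  have hgX : ((g0 : ↥G) * X * g0⁻¹ : ↥G) ∈ (P0 : Subgroup ↥G) := by
    rw [← hg0]
    exact ⟨X, hP1 (Subgroup.mem_zpowers X), rfl⟩
  set g : GL chevE6.Idx K := ((g0 : GL chevE6.Idx K))⁻¹ with hg
  have hgG : g ∈ G := inv_mem g0.2
  have hhS : g⁻¹ * mg (x : GL chevE6.Idx F) * g ∈ SS := by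
    rw [hg, inv_inv]; exact hgX
  obtain ⟨c, hc⟩ := C.mem_diagonal_iff.1 (hSST hhS)
  have hco : orderOf (C.HT K c) = r := by
    rw [← hc, show g⁻¹ * mg (x : GL chevE6.Idx F) * g = MulAut.conj g⁻¹ (mg (x : GL chevE6.Idx F)) by simp,
      MulEquiv.orderOf_eq, orderOf_injective mg hmginj, Subgroup.orderOf_coe, hx]
  let σg := Matrix.GeneralLinearGroup.map (n := chevE6.Idx) σ
  have hσu : ∀ e : I6 → Kˣ, (fun j => Units.map σ.toMonoidHom (e j)) = e ^ q := fun e =>
    funext fun j => Units.ext (hσ _)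
  have hσHT : ∀ e : I6 → Kˣ, σg (C.HT K e) = C.HT K (e ^ q) := fun e => by
    rw [ChevFixed.map_HT C σ e, hσu]
  have hσmg : ∀ y : GL chevE6.Idx F, σg (mg y) = mg y := fun y => Units.ext (Matrix.ext fun i j => hσf _)
  set n' := g⁻¹ * σg g with hn'
  have hσG : σg g ∈ G := ChevFixed.map_group_le C σ ⟨g, hgG, rfl⟩
  have hn'G : n' ∈ G := mul_mem (inv_mem hgG) hσG
  have hrel : n' * C.HT K (c ^ q) = C.HT K c * n' := by
    rw [← hσHT, ← hc, map_mul, map_mul, map_inv, hσmg, hn']
    group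
  -- normalising the Sylow subgroup
  let A0 : ↥G := ⟨C.HT K c, C.HT_mem_group c⟩
  let Z : Subgroup ↥G := Subgroup.centralizer {A0}
  have hcSS' : C.HT K c ∈ SS := hc ▸ hhS
  have hP0Z : (P0 : Subgroup ↥G) ≤ Z := by
    intro s hs
    rw [Subgroup.mem_centralizer_singleton_iff]
    exact Subtype.ext (hTcomm _ (hSST hs) _ (hSST hcSS'))
  let P2 : Sylow r ↥G := (⟨n', hn'G⟩ : ↥G) • P0
  have hP2Z : (P2 : Subgroup ↥G) ≤ Z := by
    rintro _ ⟨s, hs, rfl⟩
    rw [Subgroup.mem_centralizer_singleton_iff]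
    refine Subtype.ext ?_
    show n' * (s : GL chevE6.Idx K) * n'⁻¹ * C.HT K c = C.HT K c * (n' * (s : GL chevE6.Idx K) * n'⁻¹)
    have h1 : (s : GL chevE6.Idx K) * C.HT K (c ^ q) = C.HT K (c ^ q) * (s : GL chevE6.Idx K) :=
      hTcomm _ (hSST hs) _ (C.HT_mem_diagonal _)
    have h2 : n'⁻¹ * C.HT K c = C.HT K (c ^ q) * n'⁻¹ := by
      rw [inv_mul_eq_iff_eq_mul, ← mul_assoc, hrel, mul_inv_cancel_right]
    calc n' * (s : GL chevE6.Idx K) * n'⁻¹ * C.HT K c = n' * ((s : GL chevE6.Idx K) * (n'⁻¹ * C.HT K c)) := by group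
      _ = n' * (C.HT K (c ^ q) * (s : GL chevE6.Idx K)) * n'⁻¹ := by
        rw [h2, ← mul_assoc (s : GL chevE6.Idx K), h1]; group
      _ = (n' * C.HT K (c ^ q)) * (s : GL chevE6.Idx K) * n'⁻¹ := by group
      _ = _ := by rw [hrel]; group
  obtain ⟨z, hz⟩ := MulAction.exists_smul_eq ↥Z (P2.subtype hP2Z) (P0.subtype hP0Z)
  set m1 : GL chevE6.Idx K := ((z : ↥G) : GL chevE6.Idx K) * n' with hm1
  have hm1G : m1 ∈ G := mul_mem (z : ↥G).2 hn'G
  have hzA : ((z : ↥G) : GL chevE6.Idx K) * C.HT K c = C.HT K c * ((z : ↥G) : GL chevE6.Idx K) :=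
    congrArg Subtype.val (Subgroup.mem_centralizer_singleton_iff.1 z.2)
  have hm1c : m1 * C.HT K (c ^ q) = C.HT K c * m1 := by
    rw [hm1, mul_assoc, hrel, ← mul_assoc, hzA, mul_assoc]
  have hnorm : ∀ s ∈ SS, m1 * s * m1⁻¹ ∈ SS := by
    intro s hs
    let s' : ↥G := ⟨s, hSSG hs⟩
    have h1 : (⟨n', hn'G⟩ : ↥G) * s' * (⟨n', hn'G⟩ : ↥G)⁻¹ ∈ (P2 : Subgroup ↥G) :=
      ⟨s', hs, rfl⟩
    have h2 : z * ⟨_, hP2Z h1⟩ * z⁻¹ ∈ ((P0.subtype hP0Z : Sylow r ↥Z) : Subgroup ↥Z) := by
      rw [← hz]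
      exact ⟨⟨_, hP2Z h1⟩, h1, rfl⟩
    have h3 : ((z : ↥G) : GL chevE6.Idx K) * (n' * s * n'⁻¹) * ((z : ↥G) : GL chevE6.Idx K)⁻¹ ∈ SS := h2
    rw [hm1, mul_inv_rev]
    convert h3 using 1
    group
  have hpar : ∀ s : ↥SS, ∃ e, (s : GL chevE6.Idx K) = C.HT K e := fun s => C.mem_diagonal_iff.1 (hSST s.2)
  choose par hpar using hpar
  let tr : ↥SS → ↥SS := fun s => ⟨m1 * s * m1⁻¹, hnorm _ s.2⟩
  have htr : ∀ s, m1 * C.HT K (par s) = C.HT K (par (tr s)) * m1 := fun s => by
    rw [← hpar, ← hpar]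
    show _ = m1 * (s : GL chevE6.Idx K) * m1⁻¹ * m1
    rw [inv_mul_cancel_right]
  have htr_inj : Function.Injective tr := fun s t h =>
    Subtype.ext (mul_left_cancel (mul_right_cancel (congrArg Subtype.val h)))
  have htr_surj : Function.Surjective tr := Finite.injective_iff_surjective.1 htr_inj
  obtain ⟨ζ, hζ⟩ := exists_prime_orderOf_dvd_card' (G := Kˣ) r (by
    rwa [Nat.card_units, Nat.card_eq_fintype_card, hK])
  have hζr : ζ ^ r = 1 := hζ ▸ pow_orderOf_eq_one ζ
  have hgen : ∀ x, ∃ i : ↥SS, C.chA (par i) x ≠ 1 := by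
    intro x
    obtain ⟨k, hk⟩ : ∃ k, C.v x k ≠ 0 := Function.ne_iff.1 (C.v_ne_zero x)
    obtain ⟨e, he⟩ := exists_cube (Pi.mulSingle k ζ : I6 → Kˣ)
    have h1 : ∀ y, C.chA e y = ζ ^ (3 * C.v y k) := fun y => by
      rw [← C.chr_chA, funext he, Core.chr, Finset.prod_eq_single k (fun j _ hj => by
        rw [Pi.mulSingle_eq_of_ne hj, one_pow, one_zpow]) (by simp), Pi.mulSingle_eq_same, ← zpow_natCast,
        ← zpow_mul]
      rfl
    have her : C.HT K e ^ r = 1 := by
      rw [← HT_pow, ← C.HT_one K]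
      refine RegTorus.HT_ext fun j => ?_
      rw [chA_pow, chA_one', h1, ← zpow_natCast, ← zpow_mul, mul_comm, zpow_mul, zpow_natCast, hζr, one_zpow]
    refine ⟨⟨_, hmemSS e her⟩, fun h => ?_⟩
    rw [chA_of_HT (hpar ⟨_, hmemSS e her⟩).symm x, h1, ← zpow_zero ζ, zpow_ext hζ, Int.cast_zero,
      ZMod.intCast_zmod_eq_zero_iff_dvd] at h
    rcases (Nat.prime_iff_prime_int.1 S.prime).dvd_mul.1 h with h | h
    · have := Int.le_of_dvd (by norm_num) h
      have := S.ge
      omega
    · exact hk (Int.eq_zero_of_abs_lt_dvd h (v_small S.ge x k))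
  obtain ⟨e0, L, hm1eq, hπ0⟩ := exists_wprod_of_conj H (c := par) (c' := fun s => par (tr s)) hgen
    (fun x => by
      obtain ⟨i, hi⟩ := hgen x
      obtain ⟨j, rfl⟩ := htr_surj i
      exact ⟨j, hi⟩) hm1G htr
  set π := C.pprod L with hπdef
  have hπW : π ∈ C.WG := C.pprod_mem_WG L
  -- the exponent functional
  have hzp : ∀ u : Kˣ, u ^ r = 1 → ∃ a : ℤ, ζ ^ a = u := by
    intro u hu
    have h1 : Subgroup.zpowers ζ = (powMonoidHom r : Kˣ →* Kˣ).ker := by
      refine Subgroup.eq_of_le_of_card_ge ?_ ?_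
      · rw [Subgroup.zpowers_le, MonoidHom.mem_ker, powMonoidHom_apply, hζr]
      · rw [IsCyclic.card_powMonoidHom_ker, Nat.card_zpowers, hζ]
        exact Nat.gcd_le_right _ S.prime.pos
    have h2 : u ∈ Subgroup.zpowers ζ := by rw [h1, MonoidHom.mem_ker, powMonoidHom_apply, hu]
    exact h2
  have hcr : ∀ y, C.chA c y ^ r = 1 := fun y => by
    rw [← chA_pow, ← chA_one' (K := K) y]
    refine chA_of_HT ?_ y
    rw [HT_pow, C.HT_one, ← hco, pow_orderOf_eq_one]
  have ha : ∀ k, ∃ a : ℤ, ζ ^ a = C.chA c (C.p k) := fun k => hzp _ (hcr _)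
  choose a ha using ha
  let E : I6 → ZMod r := fun k => (a k : ZMod r)
  have hev : ∀ y, C.chA c y = ζ ^ ev C a y := by
    intro y
    rw [← C.chr_chA, Core.chr, ev, dotProduct, C.zpow_fsum]
    exact Finset.prod_congr rfl fun k _ => by rw [← ha, ← _root_.zpow_mul, Int.cast_id]
  have hevE : ∀ y, ((ev C a y : ℤ) : ZMod r) = ev C E y := fun y => by simp [ev, dotProduct, E]
  have hπc : ∀ y, C.chA c (π y) = C.chA c y ^ q := by
    intro y
    have hmem : C.HT K (c ^ q) ∈ SS := by
      rw [HT_pow]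
      exact pow_mem hcSS' q
    set s : ↥SS := ⟨_, hmem⟩
    have h1 : C.HT K (par (tr s)) = C.HT K c := by
      have e := htr s
      rw [← hpar s] at e
      exact (mul_right_cancel (hm1c.symm.trans e)).symm
    have h2 := hπ0 s y
    rw [chA_of_HT h1, chA_of_HT (hpar s).symm, chA_pow] at h2
    exact h2
  have hEπ : ∀ y, ev C E (π y) = (q : ZMod r) * ev C E y := by
    intro y
    have h1 := hπc y
    rw [hev, hev, ← zpow_natCast, ← _root_.zpow_mul, zpow_ext hζ, hevE, Int.cast_mul, hevE, Int.cast_natCast] at h1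
    rw [h1, mul_comm]
  have hEM : E ᵥ* (mat C π).map (Int.cast : ℤ → ZMod r) = ((q : ℤ) : ZMod r) • E := ev_ext C fun y => by
    rw [← ev_apply C E hπW, hEπ]
    simp [ev, smul_dotProduct]
  have hE0 : E ≠ 0 := by
    intro h0
    have hc1 : C.HT K c = C.HT K 1 := RegTorus.HT_ext fun k => by
      rw [chA_one', ← ha, ← zpow_zero ζ, zpow_ext hζ, Int.cast_zero]
      exact congrFun h0 k
    rw [C.HT_one] at hc1
    rw [hc1, orderOf_one] at hco
    exact S.prime.one_lt.ne hco
  obtain ⟨y0, hy0⟩ : ∃ y0, Good π y0 := by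
    obtain ⟨i, hi⟩ := Function.ne_iff.1 hE0
    rw [Pi.zero_apply] at hi
    have hpow : ∀ k : ℕ, E ᵥ* (mat C π ^ k).map (Int.cast : ℤ → ZMod r) = (q : ZMod r) ^ k • E := by
      intro k
      have := vecMul_aeval hEM (Polynomial.X ^ k)
      rwa [map_pow, map_pow, Polynomial.aeval_X, Polynomial.aeval_X, Int.cast_natCast] at this
    have hval : ∀ k : ℕ, (E ᵥ* (mat C π ^ k).map (Int.cast : ℤ → ZMod r)) i = (q : ZMod r) ^ k * E i := fun k => by
      rw [hpow]; rfl
    rcases classify hπW with h | ⟨k, hk, h⟩ | h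
    · exact h
    · exfalso
      have e := hval k
      rw [← mat_pow C hπW, h, mat_one, Matrix.map_one _ Int.cast_zero Int.cast_one, Matrix.vecMul_one] at e
      have hqk : (q : ZMod r) ^ k = 1 := (mul_eq_right₀ hi).1 e.symm
      have := orderOf_dvd_of_pow_eq_one hqk
      rw [S.ord] at this
      fin_cases hk <;> omega
    · exfalso
      have hadd : ∀ X Y : Matrix I6 I6 ℤ, (X + Y).map (Int.cast : ℤ → ZMod r) =
          X.map Int.cast + Y.map Int.cast := fun X Y => Matrix.map_add _ Int.cast_add X Y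
      have h1 := congrArg (fun X : Matrix I6 I6 ℤ => (E ᵥ* X.map (Int.cast : ℤ → ZMod r)) i) h
      simp only [hadd, Matrix.vecMul_add, Pi.add_apply, hval, Matrix.map_one _ Int.cast_zero Int.cast_one,
        Matrix.vecMul_one] at h1
      have h1' := hval 1
      simp only [pow_one] at h1'
      rw [h1'] at h1
      have h2 : (((q : ZMod r) ^ 4 - 1) * ((q : ZMod r) ^ 2 - q + 1)) * E i = 0 := by linear_combination h1
      rcases mul_eq_zero.1 ((mul_eq_zero.1 h2).resolve_right hi) with h3 | h3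
      · have := orderOf_dvd_of_pow_eq_one (sub_eq_zero.1 h3)
        rw [S.ord] at this
        omega
      · have h6 : (q : ZMod r) ^ 6 = 1 := by linear_combination ((q : ZMod r) + 1) * ((q : ZMod r) ^ 3 - 1) * h3
        have := orderOf_dvd_of_pow_eq_one h6
        rw [S.ord] at this
        omega
  have hr2 : r ≠ 2 := by have := S.ge; omega
  have hreg : ∀ y, ev C E y ≠ 0 := hy0.regular hπW hr2 S.phi hEM hE0
  have hreg1 : ∀ y, C.chA c y ≠ 1 := fun y h => hreg y (by
    rw [hev, ← zpow_zero ζ, zpow_ext hζ, Int.cast_zero, hevE] at h; exact h)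
  have hreg1q : ∀ y, C.chA (c ^ q) y ≠ 1 := fun y h => hreg1 (π y) (by rw [hπc, ← chA_pow, h])
  have hrank : chevE6.rank + 1 < r := by
    have := S.ge
    have := rank_eq
    omega
  have hstab : ∀ ω ∈ C.WG, (∀ y, C.chA c (ω y) = C.chA c y) → ω = 1 := fun ω hω h =>
    stab C hrank hreg hω fun y => by
      have h1 := h y
      rwa [hev, hev, zpow_ext hζ, hevE, hevE] at h1
  obtain ⟨e1, L1, hn'eq, hπ1⟩ := exists_wprod_of_conj H (ι := Unit) (c := fun _ => c ^ q) (c' := fun _ => c)
    (fun y => ⟨(), hreg1q y⟩) (fun y => ⟨(), hreg1 y⟩) hn'G (fun _ => hrel)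
  have hππ : C.pprod L1 = π := by
    refine mul_inv_eq_one.1 (hstab _ (mul_mem (C.pprod_mem_WG L1) (inv_mem hπW)) fun y => ?_)
    rw [Equiv.Perm.mul_apply, hπ1 (), chA_pow, ← hπc, Equiv.Perm.inv_def, Equiv.apply_symm_apply]
  have hacts : C.Acts n' π := by rw [hn'eq, ← hππ]; exact C.acts_HT_wprod K e1 L1
  -- the centraliser
  let Hc : Subgroup ↥(chevE6.group F) := Subgroup.centralizer {x}
  have hcent : ∀ y : ↥Hc, ∃ e, g⁻¹ * mg ((y : ↥(chevE6.group F)) : GL chevE6.Idx F) * g = C.HT K e ∧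
      (∀ y', C.chA e (π y') = C.chA e y' ^ q) ∧ Lift.actL C L1 (e ^ q) = e := by
    intro y
    have hYG : g⁻¹ * mg ((y : ↥(chevE6.group F)) : GL chevE6.Idx F) * g ∈ G :=
      mul_mem (mul_mem (inv_mem hgG) (ChevFixed.map_group_le C f ⟨_, y.1.2, rfl⟩)) hgG
    have hcm : Commute (g⁻¹ * mg ((y : ↥(chevE6.group F)) : GL chevE6.Idx F) * g) (C.HT K c) := by
      rw [← hc]
      have h1 : mg ((y : ↥(chevE6.group F)) : GL chevE6.Idx F) * mg (x : GL chevE6.Idx F) =
          mg (x : GL chevE6.Idx F) * mg ((y : ↥(chevE6.group F)) : GL chevE6.Idx F) := by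
        rw [← map_mul, ← map_mul]
        exact congrArg mg (congrArg Subtype.val (Subgroup.mem_centralizer_singleton_iff.1 y.2))
      show _ = _
      calc (g⁻¹ * mg _ * g) * (g⁻¹ * mg (x : GL chevE6.Idx F) * g)
          = g⁻¹ * (mg ((y : ↥(chevE6.group F)) : GL chevE6.Idx F) * mg (x : GL chevE6.Idx F)) * g := by group
        _ = g⁻¹ * (mg (x : GL chevE6.Idx F) * mg ((y : ↥(chevE6.group F)) : GL chevE6.Idx F)) * g := by rw [h1]
        _ = _ := by group
    obtain ⟨e, he⟩ := G2Torus.Regular.exists_HT_of_commute_stab H hreg1 hstab hYG hcm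
    obtain ⟨e', he', hact⟩ := Lift.exact_twist (C := C) ambient CurtisTits.CertE6.cert f σ hσf hgG y.1.2 he
      (show g⁻¹ * σg g = C.HT K e1 * C.wprod K L1 by rw [← hn'eq, hn'])
    rw [hσu] at hact
    refine ⟨e', he.trans he'.symm, fun y' => ?_, hact⟩
    have h1 := congrArg σg (he.trans he'.symm)
    rw [hσHT, map_mul, map_mul, map_inv, hσmg] at h1
    have h2 : n' * C.HT K (e' ^ q) = C.HT K e' * n' := by
      rw [← h1, ← he.trans he'.symm, hn']; group
    rw [← chA_pow]
    exact chA_of_conj hacts h2 y'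
  choose et het hetπ hetact using hcent
  -- coordinates
  set N := Nat.card Kˣ with hN
  have hNQ : N = Q - 1 := by rw [hN, Nat.card_units, Nat.card_eq_fintype_card, hK]
  haveI : NeZero N := ⟨by rw [hNQ]; omega⟩
  let ι' : Kˣ ≃* Multiplicative (ZMod N) := (zmodCyclicMulEquiv (G := Kˣ) inferInstance).symm
  let φ : Kˣ →* Multiplicative (ZMod N) := ι'.toMonoidHom
  have hcdM : ∀ e : I6 → Kˣ, (∀ y, C.chA e (π y) = C.chA e y ^ q) →
      cd6 φ e ᵥ* (mat C π).map (Int.cast : ℤ → ZMod N) = ((q : ℤ) : ZMod N) • cd6 φ e := fun e h =>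
    ev_ext C fun y => by
      rw [← ev_apply C _ hπW, ← chA_ev, h, map_pow, toAdd_pow, chA_ev]
      simp [ev, smul_dotProduct, nsmul_eq_mul]
  have hM0 : ((M0 q : ℕ) : ZMod N) = m6 (((q : ℤ)) : ZMod N) := by rw [cast_M0, Int.cast_natCast]
  -- the values are killed by the order
  have hkill : ∀ y : ↥Hc, (m0 q : ZMod N) * ev C (cd6 φ (et y)) y0 = 0 := by
    intro y
    rcases hgcases with hg1 | ⟨hq3, hg3⟩
    · rw [hg1, mul_one] at hmg
      rw [hmg, hM0]
      exact (hy0.eigen hπW (hcdM _ (hetπ y))).1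
    · rw [hg3] at hmg
      set v := co6 φ (et y) with hvdef
      have hfix : ((q : ℤ) : ZMod N) • ((mat C π).map (Int.cast : ℤ → ZMod N) *ᵥ v) = v := by
        conv_rhs => rw [hvdef, ← hetact y, co6_actL, hππ]
        rw [← Matrix.mulVec_smul]
        congr 1
        funext j
        simp [co6, hvdef, nsmul_eq_mul]
      have hkv := hy0.fixed_kill hπW hfix
      rw [← hM0, ← hmg, Nat.cast_mul] at hkv
      set w := (m0 q : ZMod N) • v with hw
      have h3w : ∀ k, (3 : ZMod N) * w k = 0 := fun k => by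
        have := congrFun hkv k
        simp only [Pi.smul_apply, smul_eq_mul, Pi.zero_apply] at this
        rw [← this, hw, Pi.smul_apply, smul_eq_mul]
        push_cast
        ring
      obtain ⟨h, hinj, hsurj⟩ := exists_lift_three (N := N) (by
        rw [hNQ]
        refine Dvd.dvd.trans ?_ (show q - 1 ∣ Q - 1 from ?_)
        · omega
        · have := Nat.sub_dvd_pow_sub_pow q 1 12
          rwa [one_pow] at this)
      choose w' hw' using fun k => hsurj (w k) (h3w k)
      have hq1w : ∀ k, ((q : ℤ) : ZMod N) * w k = w k := fun k => by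
        obtain ⟨t, ht⟩ : ∃ t, q = 3 * t + 1 := ⟨q / 3, by omega⟩
        rw [ht]
        push_cast
        linear_combination (t : ZMod N) * h3w k
      have hMw : (mat C π).map (Int.cast : ℤ → ZMod N) *ᵥ w = w := by
        have e1 : ((q : ℤ) : ZMod N) • ((mat C π).map (Int.cast : ℤ → ZMod N) *ᵥ w) = w := by
          rw [hw, Matrix.mulVec_smul, smul_comm, hfix]
        conv_rhs => rw [← e1]
        rw [← Matrix.mulVec_smul]
        congr 1
        funext k
        exact (hq1w k).symm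
      have hfun : (fun k => h (w' k)) = w := funext hw'
      have hMw' : (mat C π).map (Int.cast : ℤ → ZMod 3) *ᵥ w' = w' := funext fun k => hinj (by
        rw [congrFun (map_mulVec_hom h _ w') k, hfun, hMw, hw'])
      have hA := hy0.fixed_three hπW hMw'
      have hAw : amat.map (Int.cast : ℤ → ZMod N) *ᵥ w = 0 := by
        rw [← hfun, ← map_mulVec_hom, hA]
        funext k
        simp
      rw [← smul_eq_mul, ev, ← smul_dotProduct, cd6_eq, ← Matrix.mulVec_smul, ← hvdef, ← hw, hAw, zero_dotProduct]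
  -- the map to the cyclic group
  let Ψ : ↥Hc →* Multiplicative (ZMod N) :=
    { toFun := fun y => φ (C.chA (et y) y0)
      map_one' := by
        have h1 : C.HT K (et 1) = C.HT K 1 := by rw [← het, C.HT_one]; simp
        rw [chA_of_HT h1, chA_one', map_one]
      map_mul' := fun y y' => by
        have h1 : C.HT K (et (y * y')) = C.HT K (et y * et y') := by
          rw [← het, ← C.HT_mul, ← het, ← het, Subgroup.coe_mul, Subgroup.coe_mul, map_mul]; group
        rw [chA_of_HT h1, ← map_mul]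
        congr 1
        simp [Core.chA, mul_zpow, Finset.prod_mul_distrib] }
  have hΨinj : Function.Injective Ψ := by
    refine (injective_iff_map_eq_one Ψ).2 fun y hy => ?_
    have h0 : ev C (cd6 φ (et y)) y0 = 0 := by
      rw [← chA_ev]
      exact congrArg Multiplicative.toAdd hy
    have hcd : cd6 φ (et y) = 0 := by
      rw [(hy0.eigen hπW (hcdM _ (hetπ y))).2, h0]
      simp only [mul_zero]
      exact Matrix.zero_vecMul _
    have h1 : C.HT K (et y) = C.HT K 1 := RegTorus.HT_ext fun k => by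
      rw [chA_one']
      refine ι'.injective ?_
      rw [map_one]
      exact toAdd_eq_zero.1 (congrFun hcd k)
    have h2 := het y
    rw [h1, C.HT_one, mul_assoc, inv_mul_eq_one, eq_comm, mul_eq_right] at h2
    exact Subtype.ext (Subtype.ext (hmginj (h2.trans (map_one _).symm)))
  have hNm : m0 q ∣ N := by rw [hNQ]; exact m0_dvd_pow q hq1.le
  have hrange : Ψ.range = (powMonoidHom (m0 q) : Multiplicative (ZMod N) →* Multiplicative (ZMod N)).ker := by
    refine le_antisymm ?_ fun u hu => ?_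
    · rintro _ ⟨y, rfl⟩
      rw [MonoidHom.mem_ker, powMonoidHom_apply, ← toAdd_eq_zero, toAdd_pow, nsmul_eq_mul]
      show (m0 q : ZMod N) * Multiplicative.toAdd (φ _) = 0
      rw [chA_ev]
      exact hkill y
    · rw [MonoidHom.mem_ker, powMonoidHom_apply, ← toAdd_eq_zero, toAdd_pow, nsmul_eq_mul] at hu
      set u0 := Multiplicative.toAdd u with hu0
      obtain ⟨t, ht⟩ : ∃ t, m0 q = 3 * t + 1 := ⟨m0 q / 3, by omega⟩
      set u' : ZMod N := (t : ZMod N) ^ 2 * u0 with hu'
      have hu9 : (9 : ZMod N) * u' = u0 := by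
        rw [ht] at hu
        push_cast at hu
        rw [hu']
        linear_combination (3 * (t : ZMod N) - 1) * hu
      have hMu : m6 (((q : ℤ)) : ZMod N) * u' = 0 := by
        rw [← hM0, ← hmg, Nat.cast_mul, hu']
        linear_combination ((Nat.gcd 3 (q - 1) : ℕ) : ZMod N) * (t : ZMod N) ^ 2 * hu
      obtain ⟨Fv, hFM, hFu⟩ := hy0.eigen_exists hπW hMu
      obtain ⟨e, he⟩ := exists_cube fun k => ι'.symm (Multiplicative.ofAdd (Fv k))
      have hcde : cd6 φ e = (3 : ZMod N) • Fv := funext fun k => by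
        show Multiplicative.toAdd (ι' _) = _
        rw [he, map_pow, MulEquiv.apply_symm_apply, toAdd_pow, toAdd_ofAdd, nsmul_eq_mul, Pi.smul_apply, smul_eq_mul]
        rfl
      have hrel' : ∀ y, C.chA e (π y) = C.chA e y ^ q := fun y => by
        refine ι'.injective (Multiplicative.toAdd.injective ?_)
        show Multiplicative.toAdd (φ (C.chA e (π y))) = Multiplicative.toAdd (φ (C.chA e y ^ q))
        rw [map_pow, toAdd_pow, chA_ev, chA_ev, hcde, ev_apply C _ hπW, Matrix.smul_vecMul, hFM]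
        simp [ev, smul_dotProduct, nsmul_eq_mul]
        ring
      have hn : n' * C.HT K (e ^ q) = C.HT K e * n' := by
        obtain ⟨e2, he2⟩ := C.wprod_HT K L1 (e ^ q)
        have h1 : n' * C.HT K (e ^ q) = C.HT K e2 * n' := by
          rw [hn'eq, mul_assoc, he2, ← mul_assoc, C.HT_mul, ← mul_assoc, C.HT_mul, mul_comm e1]
        have h2 : C.HT K e2 = C.HT K e := RegTorus.HT_ext fun k => by
          have h3 := chA_of_conj hacts h1 (π⁻¹ (C.p k))
          rw [chA_pow, ← hrel', Equiv.Perm.inv_def, Equiv.apply_symm_apply] at h3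
          exact h3
        rw [h1, h2]
      have hY : g * C.HT K (e ^ 3) * g⁻¹ ∈ (chevE6.group F).map mg := by
        have h1 := Fixed.cube_mem (C := C) H invC_ok f σ hσf hfixed
          (g := g * C.HT K e * g⁻¹) (mul_mem (mul_mem hgG (C.HT_mem_group e)) (inv_mem hgG)) (by
            show σg _ = _
            rw [map_mul, map_mul, map_inv σg g, hσHT, show σg g = g * n' by rw [hn']; group,
              mul_assoc g, hn]
            group)
        rwa [conj_pow, ← HT_pow] at h1
      obtain ⟨w0, hw0, hw0e⟩ := hY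
      have hw0c : (⟨w0, hw0⟩ : ↥(chevE6.group F)) ∈ Hc := by
        rw [Subgroup.mem_centralizer_singleton_iff]
        refine Subtype.ext (hmginj ?_)
        show mg (w0 * (x : GL chevE6.Idx F)) = mg ((x : GL chevE6.Idx F) * w0)
        rw [map_mul, map_mul, hw0e, show mg (x : GL chevE6.Idx F) = g * C.HT K c * g⁻¹ by rw [← hc]; group]
        have h9 : C.HT K (e ^ 3) * C.HT K c = C.HT K c * C.HT K (e ^ 3) := by rw [C.HT_mul, C.HT_mul, mul_comm]
        calc g * C.HT K (e ^ 3) * g⁻¹ * (g * C.HT K c * g⁻¹)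
            = g * (C.HT K (e ^ 3) * C.HT K c) * g⁻¹ := by group
          _ = g * (C.HT K c * C.HT K (e ^ 3)) * g⁻¹ := by rw [h9]
          _ = _ := by group
      refine ⟨⟨_, hw0c⟩, ?_⟩
      have h4 : C.HT K (et ⟨_, hw0c⟩) = C.HT K (e ^ 3) := by
        rw [← het]
        show g⁻¹ * mg w0 * g = _
        rw [hw0e]; group
      show φ (C.chA (et _) y0) = u
      rw [chA_of_HT h4]
      refine Multiplicative.toAdd.injective ?_
      rw [chA_pow, map_pow, toAdd_pow, chA_ev, hcde, ← hu0, ← hu9, ← hFu]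
      simp [ev, smul_dotProduct, nsmul_eq_mul]
      ring
  haveI : IsCyclic ↥Hc := isCyclic_of_injective Ψ hΨinj
  refine ⟨Hc, inferInstance, ?_, ?_⟩
  · rw [Nat.card_congr (MonoidHom.ofInjective hΨinj).toEquiv, hrange, IsCyclic.card_powMonoidHom_ker,
      Nat.card_congr Multiplicative.toAdd, Nat.card_zmod, Nat.gcd_eq_right hNm]
  · refine le_antisymm (fun y hy => ?_) fun y hy => ?_
    · rw [Subgroup.mem_centralizer_singleton_iff]
      exact (Subgroup.mem_centralizer_iff.1 hy x (Subgroup.mem_centralizer_singleton_iff.2 rfl)).symm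
    · rw [Subgroup.mem_centralizer_iff]
      intro y' hy'
      letI := IsCyclic.commGroup (α := ↥Hc)
      exact congrArg Subtype.val (mul_comm (⟨y', hy'⟩ : ↥Hc) ⟨y, hy⟩)

/-- E₆(q) has a self-centralising cyclic subgroup of order (q⁴ − q² + 1)(q² + q + 1)/gcd(3, q − 1). -/
theorem exists_cyclic {F : Type u} [Field F] [Fintype F] {q : ℕ} (hF : Fintype.card F = q) :
    ∃ H : Subgroup ↥(chevE6.group F), IsCyclic ↥H ∧
      Nat.card ↥H = (q ^ 4 - q ^ 2 + 1) * (q ^ 2 + q + 1) / Nat.gcd 3 (q - 1) ∧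
      Subgroup.centralizer (H : Set ↥(chevE6.group F)) = H := by
  obtain ⟨r, S⟩ := exists_prm (show 2 ≤ q from hF ▸ Fintype.one_lt_card)
  exact exists_torus hF S

end Cfsg.Agent.Lib.ChevStructure.RegTorusSix
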