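import Cfsg.Agent.Lib.ChevStructure.RegTorusSix.Tables
import Cfsg.Agent.Lib.ChevStructure.Data.E6

/-!
A search through the elements of the Weyl group of type E₆ with given image of the highest root, by
backtracking on the images of the fundamental roots, as functions which reduce quickly in the kernel.
-/

set_option autoImplicit false

namespace Cfsg.Agent.Lib.ChevStructure.RegTorusSix

/-- A byte of a table. -/
def byte (T i : ℕ) : ℕ := Nat.land (Nat.shiftRight T (8 * i)) 255

/-- Evaluate the argument first. -/
def forceN {α : Type} (n : ℕ) (f : ℕ → α) : α :=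
  match n with
  | 0 => f 0
  | k + 1 => f (k + 1)

theorem forceN_eq {α : Type} (n : ℕ) (f : ℕ → α) : forceN n f = f n := by cases n <;> rfl

/-- The value of the form of two roots, plus two. -/
def bv (z w : ℕ) : ℕ := byte bT (z * 72 + w)

/-- The roots with a given value of the form with a root. -/
def msk (z c : ℕ) : ℕ := Nat.land (Nat.shiftRight mT (72 * (z * 5 + c))) 4722366482869645213695

/-- `forBits fuel m f` says that `f` holds at all the set bits of `m`. -/
def forBits : ℕ → ℕ → (ℕ → Bool) → Bool
  | 0, m, _ => Nat.beq m 0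
  | fuel + 1, m, f =>
    cond (Nat.beq m 0) true
      (forceN (Nat.log2 m) fun i => f i && forceN (Nat.xor m (Nat.pow 2 i)) fun m' => forBits fuel m' f)

/-- The images of the positive roots, built up along the decompositions. -/
def buildP (img : List ℕ) : ℕ → ℕ
  | 0 => 0
  | j + 1 => forceN (buildP img j) fun P =>
      forceN (Nat.land (Nat.shiftRight dT (16 * j)) 65535) fun d =>
        P + Nat.shiftLeft
          (cond (Nat.beq (Nat.land d 255) 255) (img.getD (Nat.shiftRight d 8) 0)
            (byte sumT (byte P (Nat.land d 255 - 36) * 72 + img.getD (Nat.shiftRight d 8) 0))) (8 * j)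

/-- The image of a root. -/
def app (P z : ℕ) : ℕ := cond (Nat.blt z 36) (71 - byte P (35 - z)) (byte P (z - 36))

/-- The values of the form of `y` with the next elements of its orbit are the listed ones. -/
def profOK (P y : ℕ) : ℕ → List ℕ → Bool
  | _, [] => true
  | z, c :: cs => forceN (app P z) fun z' => Nat.beq (bv y z') c && profOK P y z' cs

/-- The candidates for a cyclic root. -/
def cands : List ℕ := [56, 46, 42, 39, 37, 36, 14, 0]

/-- The profile of a Coxeter element, plus two. -/
def prof : List ℕ := [2, 2, 3, 1, 1, 2]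

/-- An iterate. -/
def iter (P : ℕ) : ℕ → ℕ → ℕ
  | 0, z => z
  | k + 1, z => forceN (app P z) fun z' => iter P k z'

/-- The fundamental roots. -/
def simples : List ℕ := [56, 46, 42, 39, 37, 36]

/-- The k-th power is the identity. -/
def powOK (P k : ℕ) : Bool := simples.all fun s => Nat.beq (iter P k s) s

/-- The coordinates of a root, shifted and packed. -/
def key (z : ℕ) : ℕ := Data.E6.fast.vp z

/-- The relation σ⁶ + σ⁴ + σ = σ⁵ + σ² + 1. -/
def psiOK (P : ℕ) : Bool :=
  simples.all fun s => Nat.beq (key (iter P 6 s) + key (iter P 4 s) + key (iter P 1 s))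
    (key (iter P 5 s) + key (iter P 2 s) + key s)

/-- The check at a leaf. -/
def leafOK (img : List ℕ) : Bool :=
  forceN (buildP img 36) fun P =>
    [4, 6, 8, 9, 10, 5].any (powOK P) || cands.any (fun y => profOK P y y prof) || psiOK P

/-- The invariant modulo three which excludes the automorphisms outside the Weyl group. -/
def classOK (a0 a2 a4 a5 : ℕ) : Bool :=
  decide ((Data.E6.fast.v a0 0 + 2 * Data.E6.fast.v a2 0 + Data.E6.fast.v a4 0 + 2 * Data.E6.fast.v a5 0) % 3
    = (1 : ℤ))

/-- All elements mapping the highest root to `rep` pass the check. -/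
def search (rep : ℕ) : Bool :=
  forBits 72 (msk rep 3) fun a1 =>
  forBits 72 (Nat.land (msk rep 2) (msk a1 1)) fun a3 =>
  forBits 72 (Nat.land (Nat.land (msk rep 2) (msk a1 2)) (msk a3 1)) fun a2 =>
  forBits 72 (Nat.land (Nat.land (Nat.land (msk rep 2) (msk a1 2)) (msk a3 1)) (msk a2 2)) fun a4 =>
  forBits 72 (Nat.land (Nat.land (Nat.land (Nat.land (msk rep 2) (msk a1 2)) (msk a3 2)) (msk a2 1))
    (msk a4 2)) fun a0 =>
  forBits 72 (Nat.land (Nat.land (Nat.land (Nat.land (Nat.land (msk rep 2) (msk a1 2)) (msk a3 2)) (msk a2 2))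
    (msk a4 1)) (msk a0 2)) fun a5 =>
    !classOK a0 a2 a4 a5 || leafOK [a0, a1, a2, a3, a4, a5]

/-- Walk to a representative by reflections fixing the highest root. -/
def redOK : ℕ → ℕ → Bool
  | 0, _ => false
  | fuel + 1, z =>
    forceN (Nat.land (Nat.shiftRight nT (4 * z)) 15) fun g =>
      cond (Nat.beq g 7) (List.elem z [0, 1, 11, 46, 71])
        (List.elem g [0, 2, 3, 4, 5] && forceN (Data.E6.fast.w g z) fun z' => redOK fuel z')

end Cfsg.Agent.Lib.ChevStructure.RegTorusSix
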