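import Cfsg.Agent.Lib.ChevStructure.RegTorusSix.Certs
import Cfsg.Agent.Lib.ChevStructure.RegTorus.Gram
import Cfsg.Agent.Lib.ChevStructure.Order.CertE6

/-!
The elements of the Weyl group of type E₆: each one has order dividing one of 4, 5, 6, 8, 9, 10, or satisfies
a relation excluding eigenvalues of order 12, or has a cyclic root with the profile of a Coxeter element.
-/

set_option autoImplicit false
set_option maxRecDepth 100000
set_option linter.unusedSectionVars false

namespace Cfsg.Agent.Lib.ChevStructure.RegTorusSix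

open Cfsg.Lie
open Cfsg.Agent.Lib.ChevStructure.RegTorus
open scoped Matrix

/-- the core -/
noncomputable abbrev C : Core chevE6 := Cert.E6.core

/-- the rows of the Cartan matrix -/
def aRows : List (List ℤ) :=
  [[2, 0, -1, 0, 0, 0], [0, 2, 0, -1, 0, 0], [-1, 0, 2, -1, 0, 0], [0, -1, -1, 2, -1, 0],
    [0, 0, 0, -1, 2, -1], [0, 0, 0, 0, -1, 2]]

/-- the Cartan matrix -/
def amat : Matrix (Fin chevE6.rank) (Fin chevE6.rank) ℤ := matL chevE6.rank aRows

/-- coordinates of a root -/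
def vv (r : ℕ) : Fin chevE6.rank → ℤ := fun m => Data.E6.fast.v r m

theorem v_eq (x : Rt chevE6) : C.v x = vv x.val := rfl

theorem p_val' (i : Fin chevE6.rank) : (C.p i).val = Data.E6.fast.p i := Cert.E6.certified.p_val i

theorem rank_eq : chevE6.rank = 6 := by decide +kernel

theorem nroots_eq : chevE6.nroots = 72 := by decide +kernel

theorem amat_fast : amat = Matrix.of fun j k : Fin chevE6.rank => Data.E6.fast.a j (Data.E6.fast.p k) := by
  decide +kernel

theorem A_eq (j k : Fin chevE6.rank) : A chevE6 j (C.p k) = amat j k := by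
  rw [Cert.E6.certified.A_val, p_val', amat_fast]
  rfl

theorem amat_symm : amatᵀ = amat := by decide +kernel

theorem refl_inv : ∀ i, (srefMat (fun j k => amat j k) i)ᵀ * amat * srefMat (fun j k => amat j k) i = amat := by
  decide +kernel

theorem inv_amat {σ : Equiv.Perm (Rt chevE6)} (hσ : σ ∈ C.WG) : (mat C σ)ᵀ * amat * mat C σ = amat :=
  mat_invariant C amat A_eq refl_inv hσ

/-- the form of two roots -/
noncomputable def B2 (x y : Rt chevE6) : ℤ := bil amat (C.v x) (C.v y)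

theorem B2_apply {σ : Equiv.Perm (Rt chevE6)} (hσ : σ ∈ C.WG) (x y : Rt chevE6) :
    B2 (σ x) (σ y) = B2 x y := by
  rw [B2, B2, ← mat_mulVec C hσ x, ← mat_mulVec C hσ y, bil_mulVec amat (inv_amat hσ)]

/-- the form from the table of coordinates, expanded -/
def bexp (r s : ℕ) : ℤ :=
  let v := Data.E6.fast.v
  2 * (v r 0 * v s 0 + v r 1 * v s 1 + v r 2 * v s 2 + v r 3 * v s 3 + v r 4 * v s 4 + v r 5 * v s 5) -
    (v r 0 * v s 2 + v r 2 * v s 0) - (v r 1 * v s 3 + v r 3 * v s 1) - (v r 2 * v s 3 + v r 3 * v s 2) -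
    (v r 3 * v s 4 + v r 4 * v s 3) - (v r 4 * v s 5 + v r 5 * v s 4)

theorem bil_six (x y : Fin chevE6.rank → ℤ) (f g : ℕ → ℤ) (hx : ∀ m, x m = f m.val) (hy : ∀ m, y m = g m.val) :
    bil amat x y = 2 * (f 0 * g 0 + f 1 * g 1 + f 2 * g 2 + f 3 * g 3 + f 4 * g 4 + f 5 * g 5) -
    (f 0 * g 2 + f 2 * g 0) - (f 1 * g 3 + f 3 * g 1) - (f 2 * g 3 + f 3 * g 2) -
    (f 3 * g 4 + f 4 * g 3) - (f 4 * g 5 + f 5 * g 4) := by
  have key : ∀ (n : ℕ) (hn : n = 6) (u : Fin n → ℤ), (∑ i, u i) =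
      u ⟨0, by omega⟩ + u ⟨1, by omega⟩ + u ⟨2, by omega⟩ + u ⟨3, by omega⟩ + u ⟨4, by omega⟩ + u ⟨5, by omega⟩ := by
    intro n hn u; subst hn; exact Fin.sum_univ_six u
  simp only [bil, dotProduct, Matrix.mulVec, key _ rank_eq, hx, hy, amat, aRows, matL, Matrix.of_apply]
  simp
  ring

theorem bv_table : allLt 72 (fun r => allLt 72 fun s => decide ((bv r s : ℤ) = bexp r s + 2)) = true := by
  decide +kernel

theorem allLt_iff' {k : ℕ} {f : ℕ → Bool} : allLt k f = true ↔ ∀ i < k, f i = true := allLt_iff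

theorem val_lt (x : Rt chevE6) : x.val < 72 := lt_of_lt_of_eq x.isLt nroots_eq

theorem bv_eq (x y : Rt chevE6) : (bv x.val y.val : ℤ) = B2 x y + 2 := by
  have h := allLt_iff.1 (allLt_iff.1 bv_table _ (val_lt x)) _ (val_lt y)
  rw [decide_eq_true_eq] at h
  rw [h, B2, bil_six (C.v x) (C.v y) (fun m => Data.E6.fast.v x.val m) (fun m => Data.E6.fast.v y.val m)
    (fun _ => rfl) (fun _ => rfl)]
  rfl

theorem msk_table : allLt 72 (fun r => allLt 72 fun s => Nat.testBit (msk r (bv r s)) s) = true := by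
  decide +kernel

theorem testBit_msk (x y : Rt chevE6) {c : ℕ} (h : B2 x y + 2 = (c : ℤ)) :
    (msk x.val c).testBit y.val = true := by
  have h2 : bv x.val y.val = c := by exact_mod_cast (bv_eq x y).trans h
  rw [← h2]
  exact allLt_iff.1 (allLt_iff.1 msk_table _ (val_lt x)) _ (val_lt y)

theorem forBits_sound : ∀ {fuel m : ℕ} {f : ℕ → Bool}, forBits fuel m f = true →
    ∀ j, m.testBit j = true → f j = true
  | 0, m, f, h, j, hj => by
    rw [forBits] at h
    rw [Nat.eq_of_beq_eq_true h] at hj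
    simp at hj
  | fuel + 1, m, f, h, j, hj => by
    rw [forBits] at h
    cases e : Nat.beq m 0
    · rw [e] at h
      simp only [cond_false, forceN_eq, Bool.and_eq_true] at h
      by_cases hij : j = Nat.log2 m
      · exact hij ▸ h.1
      · refine forBits_sound h.2 j ?_
        show (m ^^^ 2 ^ Nat.log2 m).testBit j = true
        rw [Nat.testBit_xor, hj, Nat.testBit_two_pow_of_ne (Ne.symm hij)]
        rfl
    · rw [Nat.eq_of_beq_eq_true e] at hj
      simp at hj

/-- the sum table -/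
theorem sum_table : allLt 72 (fun r => allLt 72 fun s =>
    forceN (byte sumT (r * 72 + s)) fun t =>
      cond (Nat.beq t 255) (!decide (bexp r s = -1))
        (Nat.blt t 72 && allLt 6 fun m => decide (Data.E6.fast.v t m = Data.E6.fast.v r m + Data.E6.fast.v s m))) = true := by
  decide +kernel

theorem sum_spec (x y z : Rt chevE6) (h : C.v z = C.v x + C.v y) :
    byte sumT (x.val * 72 + y.val) = z.val := by
  have h0 := allLt_iff.1 (allLt_iff.1 sum_table _ (val_lt x)) _ (val_lt y)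
  rw [forceN_eq] at h0
  set t := byte sumT (x.val * 72 + y.val) with ht
  have hzz : ∀ w : Rt chevE6, bexp w.val w.val = 2 := by
    have h2 : allLt 72 (fun r => decide (bexp r r = 2)) = true := by decide +kernel
    intro w
    exact of_decide_eq_true (allLt_iff.1 h2 _ (val_lt w))
  have hB : ∀ w u : Rt chevE6, bexp w.val u.val = B2 w u := fun w u => by
    rw [B2, bil_six (C.v w) (C.v u) (fun m => Data.E6.fast.v w.val m) (fun m => Data.E6.fast.v u.val m)
      (fun _ => rfl) (fun _ => rfl)]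
    rfl
  cases e : Nat.beq t 255
  · rw [e] at h0
    simp only [cond_false, Bool.and_eq_true, Nat.blt_eq, allLt_iff, decide_eq_true_eq] at h0
    obtain ⟨h1, h2⟩ := h0
    have e2 : (⟨t, lt_of_lt_of_eq h1 nroots_eq.symm⟩ : Rt chevE6) = z := C.v_inj (funext fun m => by
      rw [h, Pi.add_apply]
      exact h2 m.val (lt_of_lt_of_eq m.isLt rank_eq))
    exact congrArg Fin.val e2
  · rw [e] at h0
    simp only [cond_true, Bool.not_eq_true', decide_eq_false_iff_not] at h0
    refine absurd ?_ h0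
    have h1 : B2 z z = B2 x x + 2 * B2 x y + B2 y y := by
      simp only [B2, h, bil, Matrix.mulVec_add, add_dotProduct, dotProduct_add]
      have hc := bil_comm amat amat_symm (C.v y) (C.v x)
      simp only [bil] at hc
      rw [hc]; ring
    rw [← hB, ← hB, ← hB, ← hB, hzz, hzz, hzz] at h1
    omega

theorem byte_add_low {P v i j : ℕ} (h : i < j) : byte (P + Nat.shiftLeft v (8 * j)) i = byte P i := by
  obtain ⟨k, rfl⟩ : ∃ k, j = i + 1 + k := ⟨j - i - 1, by omega⟩
  simp only [byte]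
  show ((P + v <<< (8 * (i + 1 + k))) >>> (8 * i)) &&& (2 ^ 8 - 1) = (P >>> (8 * i)) &&& (2 ^ 8 - 1)
  rw [Nat.and_two_pow_sub_one_eq_mod, Nat.and_two_pow_sub_one_eq_mod, Nat.shiftLeft_eq, Nat.shiftRight_eq_div_pow,
    Nat.shiftRight_eq_div_pow, show 8 * (i + 1 + k) = 8 * i + (8 + 8 * k) by ring, pow_add,
    show v * (2 ^ (8 * i) * 2 ^ (8 + 8 * k)) = v * 2 ^ (8 + 8 * k) * 2 ^ (8 * i) by ring,
    Nat.add_mul_div_right _ _ (Nat.two_pow_pos _), pow_add,
    show v * (2 ^ 8 * 2 ^ (8 * k)) = v * 2 ^ (8 * k) * 2 ^ 8 by ring, Nat.add_mul_mod_self_right]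

theorem byte_add_eq {P v j : ℕ} (hP : P < 2 ^ (8 * j)) (hv : v < 256) :
    byte (P + Nat.shiftLeft v (8 * j)) j = v ∧ P + Nat.shiftLeft v (8 * j) < 2 ^ (8 * (j + 1)) := by
  simp only [byte]
  constructor
  · show ((P + v <<< (8 * j)) >>> (8 * j)) &&& (2 ^ 8 - 1) = v
    rw [Nat.and_two_pow_sub_one_eq_mod, Nat.shiftLeft_eq, Nat.shiftRight_eq_div_pow,
      Nat.add_mul_div_right _ _ (Nat.two_pow_pos _), Nat.div_eq_of_lt hP, zero_add, Nat.mod_eq_of_lt hv]
  · show P + v <<< (8 * j) < _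
    rw [Nat.shiftLeft_eq, mul_add, mul_one, pow_add]
    nlinarith [Nat.two_pow_pos (8 * j)]

theorem dec_table : allLt 36 (fun j => forceN (Nat.land (Nat.shiftRight dT (16 * j)) 65535) fun d =>
    Nat.blt (Nat.shiftRight d 8) 6 && cond (Nat.beq (Nat.land d 255) 255)
      (Nat.beq (36 + j) (Data.E6.fast.p (Nat.shiftRight d 8)))
      (Nat.ble 36 (Nat.land d 255) && Nat.blt (Nat.land d 255) (36 + j) &&
        allLt 6 fun m => decide (Data.E6.fast.v (36 + j) m =
          Data.E6.fast.v (Nat.land d 255) m + Data.E6.fast.v (Data.E6.fast.p (Nat.shiftRight d 8)) m))) = true := by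
  decide +kernel

/-- the six images -/
noncomputable def imgs (σ : Equiv.Perm (Rt chevE6)) : List ℕ :=
  (List.finRange chevE6.rank).map fun i => (σ (C.p i)).val

theorem imgs_getD (σ : Equiv.Perm (Rt chevE6)) (i : Fin chevE6.rank) : (imgs σ).getD i.val 0 = (σ (C.p i)).val := by
  simp [imgs, List.getD_eq_getElem?_getD]

theorem imgs_eq (σ : Equiv.Perm (Rt chevE6)) {n : ℕ} (hn : n < chevE6.rank) :
    (imgs σ).getD n 0 = (σ (C.p ⟨n, hn⟩)).val := imgs_getD σ ⟨n, hn⟩

theorem buildP_spec {σ : Equiv.Perm (Rt chevE6)} (hσ : σ ∈ C.WG) : ∀ j ≤ 36,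
    buildP (imgs σ) j < 2 ^ (8 * j) ∧ ∀ x : Rt chevE6, 36 ≤ x.val → x.val < 36 + j →
      byte (buildP (imgs σ) j) (x.val - 36) = (σ x).val
  | 0, _ => ⟨by simp [buildP], fun x h1 h2 => by omega⟩
  | j + 1, hj => by
    obtain ⟨hP, hlow⟩ := buildP_spec hσ j (by omega)
    rw [buildP]
    simp only [forceN_eq]
    set P := buildP (imgs σ) j with hPdef
    set d := Nat.land (Nat.shiftRight dT (16 * j)) 65535 with hd
    have hdec := allLt_iff.1 dec_table j (by omega)
    rw [forceN_eq, ← hd, Bool.and_eq_true, Nat.blt_eq] at hdec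
    obtain ⟨hi, hdec⟩ := hdec
    set i : Fin chevE6.rank := ⟨Nat.shiftRight d 8, lt_of_lt_of_eq hi rank_eq.symm⟩ with hidef
    set z : Rt chevE6 := ⟨36 + j, lt_of_lt_of_eq (by omega : 36 + j < 72) nroots_eq.symm⟩ with hz
    have hval : cond (Nat.beq (Nat.land d 255) 255) ((imgs σ).getD (Nat.shiftRight d 8) 0)
        (byte sumT (byte P (Nat.land d 255 - 36) * 72 + (imgs σ).getD (Nat.shiftRight d 8) 0)) = (σ z).val := by
      rw [imgs_eq σ (lt_of_lt_of_eq hi rank_eq.symm), ← hidef]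
      cases e : Nat.beq (Nat.land d 255) 255
      · rw [e] at hdec
        simp only [cond_false, Bool.and_eq_true, Nat.ble_eq, Nat.blt_eq, allLt_iff, decide_eq_true_eq] at hdec
        obtain ⟨⟨h1, h2⟩, h3⟩ := hdec
        simp only [cond_false]
        set x : Rt chevE6 := ⟨Nat.land d 255, lt_of_lt_of_eq (by omega : Nat.land d 255 < 72) nroots_eq.symm⟩ with hx
        rw [show byte P (Nat.land d 255 - 36) = (σ x).val from hlow x h1 h2]
        refine sum_spec _ _ _ ?_
        rw [← mat_mulVec C hσ z, ← mat_mulVec C hσ x, ← mat_mulVec C hσ (C.p i), ← Matrix.mulVec_add]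
        congr 1
        funext m
        rw [Pi.add_apply, v_eq, v_eq, v_eq, p_val']
        exact h3 m.val (lt_of_lt_of_eq m.isLt rank_eq)
      · rw [e] at hdec
        simp only [cond_true] at hdec ⊢
        rw [show z = C.p i from Fin.ext ((Nat.eq_of_beq_eq_true hdec).trans (p_val' i).symm)]
    rw [hval]
    obtain ⟨heq, hlt⟩ := byte_add_eq hP (show (σ z).val < 256 by have := val_lt (σ z); omega)
    refine ⟨hlt, fun x h1 h2 => ?_⟩
    by_cases hx : x.val = 36 + j
    · rw [hx, show x = z from Fin.ext hx]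
      simp only [show 36 + j - 36 = j by omega]
      exact heq
    · rw [byte_add_low (by omega)]
      exact hlow x h1 (by omega)

/-- the table of the permutation -/
noncomputable def tabP (σ : Equiv.Perm (Rt chevE6)) : ℕ := buildP (imgs σ) 36

theorem app_tab {σ : Equiv.Perm (Rt chevE6)} (hσ : σ ∈ C.WG) (x : Rt chevE6) :
    app (tabP σ) x.val = (σ x).val := by
  have h := (buildP_spec hσ 36 le_rfl).2
  have h72 := val_lt x
  rw [app]
  cases e : Nat.blt x.val 36
  · have h36 : 36 ≤ x.val := by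
      by_contra h36
      have : Nat.blt x.val 36 = true := by rw [Nat.blt_eq]; omega
      rw [e] at this; exact Bool.noConfusion this
    exact h x h36 (by omega)
  · rw [Nat.blt_eq] at e
    have hrev : x.rev.val = 71 - x.val := by
      have e2 := nroots_eq
      rw [Fin.val_rev]; omega
    have h1 := h x.rev (by omega) (by omega)
    rw [hrev, show 71 - x.val - 36 = 35 - x.val by omega] at h1
    simp only [cond_true]
    show 71 - byte (tabP σ) (35 - x.val) = _
    rw [show byte (tabP σ) (35 - x.val) = (σ x.rev).val from h1, C.WG_rev ⟨σ, hσ⟩]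
    change 71 - (Fin.rev (σ x)).val = _
    have := val_lt (σ x)
    have e2 := nroots_eq
    rw [Fin.val_rev]; omega

theorem iter_tab {σ : Equiv.Perm (Rt chevE6)} (hσ : σ ∈ C.WG) : ∀ (k : ℕ) (x : Rt chevE6),
    iter (tabP σ) k x.val = ((σ ^ k) x).val
  | 0, x => rfl
  | k + 1, x => by
    rw [iter, forceN_eq, app_tab hσ, iter_tab hσ k, pow_succ, Equiv.Perm.mul_apply]

/-- The profile of a Coxeter element at a cyclic root. -/
structure Good (σ : Equiv.Perm (Rt chevE6)) (y : Rt chevE6) : Prop where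
  prof : ∀ k < 6, B2 y ((σ ^ (k + 1)) y) = ([0, 0, 1, -1, -1, 0] : List ℤ).getD k 0

theorem profOK_spec {σ : Equiv.Perm (Rt chevE6)} (hσ : σ ∈ C.WG) (y : Rt chevE6) : ∀ (cs : List ℕ) (z : Rt chevE6),
    profOK (tabP σ) y.val z.val cs = true → ∀ k < cs.length, bv y.val ((σ ^ (k + 1)) z).val = cs.getD k 0
  | [], _, _, k, hk => absurd hk (Nat.not_lt_zero k)
  | c :: cs, z, h, k, hk => by
    rw [profOK, forceN_eq, app_tab hσ, Bool.and_eq_true] at h
    cases k with
    | zero =>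
      rw [zero_add, pow_one, List.getD_cons_zero]
      exact Nat.eq_of_beq_eq_true h.1
    | succ k =>
      rw [pow_succ, Equiv.Perm.mul_apply, List.getD_cons_succ]
      exact profOK_spec hσ y cs (σ z) h.2 k (Nat.lt_of_succ_lt_succ hk)

theorem good_of_profOK {σ : Equiv.Perm (Rt chevE6)} (hσ : σ ∈ C.WG) (y : Rt chevE6)
    (h : profOK (tabP σ) y.val y.val RegTorusSix.prof = true) : Good σ y := by
  refine ⟨fun k hk => ?_⟩
  have h1 := profOK_spec hσ y _ y h k hk
  have h2 := bv_eq y ((σ ^ (k + 1)) y)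
  rw [h1] at h2
  interval_cases k <;> simp [RegTorusSix.prof] at h2 ⊢ <;> omega

theorem simples_eq : simples = (List.range 6).map Data.E6.fast.p := by decide +kernel

theorem simple_mem (i : Fin chevE6.rank) : (C.p i).val ∈ simples := by
  rw [simples_eq, p_val', List.mem_map]
  exact ⟨i.val, List.mem_range.2 (lt_of_lt_of_eq i.isLt rank_eq), rfl⟩

theorem pow_eq_one_of_powOK {σ : Equiv.Perm (Rt chevE6)} (hσ : σ ∈ C.WG) {k : ℕ}
    (h : powOK (tabP σ) k = true) : σ ^ k = 1 := by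
  rw [powOK, List.all_eq_true] at h
  refine eq_one_of_mat C (pow_mem hσ k) (Matrix.ext fun m i => ?_)
  have h1 := Nat.eq_of_beq_eq_true (h _ (simple_mem i))
  rw [iter_tab hσ] at h1
  show C.v ((σ ^ k) (C.p i)) m = _
  rw [Fin.ext h1, C.v_p, Matrix.one_apply, Pi.single_apply]

theorem key_table : allLt 72 (fun r => decide ((key r : ℤ) = (Data.E6.fast.v r 0 + 8) +
    256 * ((Data.E6.fast.v r 1 + 8) + 256 * ((Data.E6.fast.v r 2 + 8) + 256 * ((Data.E6.fast.v r 3 + 8) +
    256 * ((Data.E6.fast.v r 4 + 8) + 256 * (Data.E6.fast.v r 5 + 8)))))) &&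
    allLt 6 fun m => decide (-8 ≤ Data.E6.fast.v r m) && decide (Data.E6.fast.v r m ≤ 8)) = true := by
  decide +kernel

theorem six_zero {d : ℕ → ℤ} (hb : ∀ m < 6, -48 ≤ d m ∧ d m ≤ 48)
    (h : d 0 + 256 * (d 1 + 256 * (d 2 + 256 * (d 3 + 256 * (d 4 + 256 * d 5)))) = 0) : ∀ m < 6, d m = 0 := by
  have := hb 0 (by omega); have := hb 1 (by omega); have := hb 2 (by omega)
  have := hb 3 (by omega); have := hb 4 (by omega); have := hb 5 (by omega)
  have e0 : d 0 = 0 := by omega
  have e1 : d 1 = 0 := by omega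
  have e2 : d 2 = 0 := by omega
  have e3 : d 3 = 0 := by omega
  have e4 : d 4 = 0 := by omega
  have e5 : d 5 = 0 := by omega
  intro m hm
  interval_cases m <;> assumption

theorem key_sum {a b c a' b' c' : Rt chevE6} (h : key a.val + key b.val + key c.val = key a'.val + key b'.val + key c'.val) :
    C.v a + C.v b + C.v c = C.v a' + C.v b' + C.v c' := by
  have H : ∀ x : Rt chevE6, ((key x.val : ℤ) = (Data.E6.fast.v x.val 0 + 8) +
      256 * ((Data.E6.fast.v x.val 1 + 8) + 256 * ((Data.E6.fast.v x.val 2 + 8) + 256 * ((Data.E6.fast.v x.val 3 + 8) +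
      256 * ((Data.E6.fast.v x.val 4 + 8) + 256 * (Data.E6.fast.v x.val 5 + 8)))))) ∧
      ∀ m < 6, -8 ≤ Data.E6.fast.v x.val m ∧ Data.E6.fast.v x.val m ≤ 8 := by
    intro x
    have := allLt_iff.1 key_table _ (val_lt x)
    simpa [allLt_iff] using this
  have h' : (key a.val : ℤ) + key b.val + key c.val = key a'.val + key b'.val + key c'.val := by exact_mod_cast h
  rw [(H a).1, (H b).1, (H c).1, (H a').1, (H b').1, (H c').1] at h'
  funext m
  have hm : m.val < 6 := lt_of_lt_of_eq m.isLt rank_eq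
  set d : ℕ → ℤ := fun k => Data.E6.fast.v a.val k + Data.E6.fast.v b.val k + Data.E6.fast.v c.val k -
    (Data.E6.fast.v a'.val k + Data.E6.fast.v b'.val k + Data.E6.fast.v c'.val k) with hd
  have hz := six_zero (d := d) (fun k hk => by
    obtain ⟨l1, u1⟩ := (H a).2 k hk; obtain ⟨l2, u2⟩ := (H b).2 k hk; obtain ⟨l3, u3⟩ := (H c).2 k hk
    obtain ⟨l4, u4⟩ := (H a').2 k hk; obtain ⟨l5, u5⟩ := (H b').2 k hk; obtain ⟨l6, u6⟩ := (H c').2 k hk
    simp only [hd]; omega) (by simp only [hd]; linarith) m.val hm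
  show vv a.val m + vv b.val m + vv c.val m = vv a'.val m + vv b'.val m + vv c'.val m
  simp only [vv]
  simp only [hd] at hz
  linarith

/-- The three possibilities. -/
def Cls (σ : Equiv.Perm (Rt chevE6)) : Prop :=
  (∃ y, Good σ y) ∨ (∃ k ∈ ([4, 6, 8, 9, 10, 5] : List ℕ), σ ^ k = 1) ∨
    mat C σ ^ 6 + mat C σ ^ 4 + mat C σ = mat C σ ^ 5 + mat C σ ^ 2 + 1

theorem cls_of_leaf {σ : Equiv.Perm (Rt chevE6)} (hσ : σ ∈ C.WG) (h : leafOK (imgs σ) = true) : Cls σ := by
  rw [leafOK, forceN_eq, ← tabP, Bool.or_eq_true, Bool.or_eq_true, List.any_eq_true, List.any_eq_true] at h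
  rcases h with (⟨k, hk, h⟩ | ⟨y, hy, h⟩) | h
  · exact Or.inr (Or.inl ⟨k, hk, pow_eq_one_of_powOK hσ h⟩)
  · have hy72 : y < 72 := by
      simp [cands] at hy
      omega
    exact Or.inl ⟨⟨y, lt_of_lt_of_eq hy72 nroots_eq.symm⟩, good_of_profOK hσ _ h⟩
  · refine Or.inr (Or.inr ?_)
    rw [psiOK, List.all_eq_true] at h
    refine Matrix.ext fun m i => ?_
    have h1 := Nat.eq_of_beq_eq_true (h _ (simple_mem i))
    simp only [iter_tab hσ] at h1
    have h2 := congrFun (key_sum h1) m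
    simp only [Pi.add_apply, pow_one] at h2
    simp only [← mat_pow C hσ, Matrix.add_apply]
    show C.v ((σ ^ 6) (C.p i)) m + C.v ((σ ^ 4) (C.p i)) m + C.v (σ (C.p i)) m =
      C.v ((σ ^ 5) (C.p i)) m + C.v ((σ ^ 2) (C.p i)) m + _
    rw [h2, C.v_p, Matrix.one_apply, Pi.single_apply]

/-- the highest root -/
noncomputable def θ : Rt chevE6 := ⟨71, lt_of_lt_of_eq (by decide) nroots_eq.symm⟩

/-- the invariant vector modulo three -/
def cvec (m : Fin chevE6.rank) : ℤ := ([1, 0, 2, 0, 1, 2] : List ℤ).getD m.val 0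

theorem sref_cvec : ∀ i : Fin chevE6.rank, ∀ m : Fin chevE6.rank,
    ((srefMat (fun j k => amat j k) i *ᵥ cvec) m - cvec m) % 3 = 0 := by decide +kernel

theorem mat_cvec {σ : Equiv.Perm (Rt chevE6)} (hσ : σ ∈ C.WG) (m : Fin chevE6.rank) :
    (((mat C σ *ᵥ cvec) m : ℤ) : ZMod 3) = (cvec m : ZMod 3) := by
  obtain ⟨L, rfl⟩ := C.mem_WG_iff.1 hσ
  have hm : ∀ (M : Matrix (Fin chevE6.rank) (Fin chevE6.rank) ℤ) (v : Fin chevE6.rank → ℤ),
      (fun k => (((M *ᵥ v) k : ℤ) : ZMod 3)) = M.map (Int.cast : ℤ → ZMod 3) *ᵥ fun k => (v k : ZMod 3) :=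
    fun M v => funext fun k => (Int.castRingHom (ZMod 3)).map_mulVec M v k
  induction L generalizing m with
  | nil => rw [C.pprod_nil, mat_one, Matrix.one_mulVec]
  | cons i L ih =>
    rw [C.pprod_cons, mat_mul C (Subgroup.subset_closure ⟨i, rfl⟩), ← Matrix.mulVec_mulVec, congrFun (hm _ _) m,
      funext (fun k => ih k (C.pprod_mem_WG L)), ← congrFun (hm _ _) m, mat_sref,
      funext fun j => funext (A_eq j)]
    exact (ZMod.intCast_eq_intCast_iff_dvd_sub _ _ 3).2 (by
      have := Int.dvd_of_emod_eq_zero (sref_cvec i m)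
      rw [← neg_sub] at this
      exact (dvd_neg.1 this))

theorem classOK_of_mem {σ : Equiv.Perm (Rt chevE6)} (hσ : σ ∈ C.WG) (h0 : 0 < chevE6.rank) (h2 : 2 < chevE6.rank)
    (h4 : 4 < chevE6.rank) (h5 : 5 < chevE6.rank) :
    classOK (σ (C.p ⟨0, h0⟩)).val (σ (C.p ⟨2, h2⟩)).val (σ (C.p ⟨4, h4⟩)).val (σ (C.p ⟨5, h5⟩)).val = true := by
  rw [classOK, decide_eq_true_eq]
  have h := mat_cvec hσ ⟨0, h0⟩
  rw [ZMod.intCast_eq_intCast_iff] at h
  have key : ∀ (n : ℕ) (hn : n = 6) (u : Fin n → ℤ), (∑ i, u i) =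
      u ⟨0, by omega⟩ + u ⟨1, by omega⟩ + u ⟨2, by omega⟩ + u ⟨3, by omega⟩ + u ⟨4, by omega⟩ + u ⟨5, by omega⟩ := by
    intro n hn u; subst hn; exact Fin.sum_univ_six u
  have e : (mat C σ *ᵥ cvec) ⟨0, h0⟩ = Data.E6.fast.v (σ (C.p ⟨0, h0⟩)).val 0 +
      2 * Data.E6.fast.v (σ (C.p ⟨2, h2⟩)).val 0 + Data.E6.fast.v (σ (C.p ⟨4, h4⟩)).val 0 +
      2 * Data.E6.fast.v (σ (C.p ⟨5, h5⟩)).val 0 := by
    simp only [Matrix.mulVec, dotProduct, key _ rank_eq, cvec]
    simp [mat, v_eq, vv]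
    ring
  rw [e] at h
  simpa [cvec, Int.ModEq] using h

theorem B2_simple (i j : Fin chevE6.rank) : B2 (C.p i) (C.p j) = amat i j := by
  simp [B2, bil, C.v_p]

theorem B2_comm (x y : Rt chevE6) : B2 x y = B2 y x := bil_comm amat amat_symm _ _

theorem B2_theta : ∀ i : Fin chevE6.rank, B2 (C.p i) θ = ([0, 1, 0, 0, 0, 0] : List ℤ).getD i.val 0 := by
  intro i
  have h := bv_eq (C.p i) θ
  rw [p_val'] at h
  have h2 : allLt 6 (fun i => decide ((bv (Data.E6.fast.p i) 71 : ℤ) = ([0, 1, 0, 0, 0, 0] : List ℤ).getD i 0 + 2)) = true := by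
    decide +kernel
  have h3 := of_decide_eq_true (allLt_iff.1 h2 i.val (lt_of_lt_of_eq i.isLt rank_eq))
  change (bv (Data.E6.fast.p i) 71 : ℤ) = B2 (C.p i) θ + 2 at h
  omega

theorem cls_of_search {σ : Equiv.Perm (Rt chevE6)} (hσ : σ ∈ C.WG) (h : search (σ θ).val = true) : Cls σ := by
  have hr : ∀ n, n < 6 → n < chevE6.rank := fun n hn => lt_of_lt_of_eq hn rank_eq.symm
  let q : ∀ n, n < 6 → Rt chevE6 := fun n hn => σ (C.p ⟨n, hr n hn⟩)
  have hT : ∀ n (hn : n < 6) c, ([0, 1, 0, 0, 0, 0] : List ℤ).getD n 0 + 2 = (c : ℕ) →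
      (msk (σ θ).val c).testBit (q n hn).val = true := fun n hn c hc =>
    testBit_msk _ _ (by rw [B2_apply hσ, B2_comm, B2_theta]; exact hc)
  have hP : ∀ m (hm : m < 6) n (hn : n < 6) c, (aRows.getD m []).getD n 0 + 2 = ((c : ℕ) : ℤ) →
      (msk (q m hm).val c).testBit (q n hn).val = true := fun m hm n hn c hc =>
    testBit_msk _ _ (by rw [B2_apply hσ, B2_simple]; exact hc)
  rw [search] at h
  have h1 := forBits_sound h (q 1 (by omega)).val (hT 1 (by omega) 3 rfl)
  have h3 := forBits_sound h1 (q 3 (by omega)).val (by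
    simp only [Nat.testBit_land, Nat.land_eq, Bool.and_eq_true]
    exact ⟨hT 3 (by omega) 2 rfl, hP 1 (by omega) 3 (by omega) 1 (by decide +kernel)⟩)
  have h2 := forBits_sound h3 (q 2 (by omega)).val (by
    simp only [Nat.land_eq, Nat.testBit_and, Bool.and_eq_true]
    exact ⟨⟨hT 2 (by omega) 2 rfl, hP 1 (by omega) 2 (by omega) 2 (by decide +kernel)⟩,
      hP 3 (by omega) 2 (by omega) 1 (by decide +kernel)⟩)
  have h4 := forBits_sound h2 (q 4 (by omega)).val (by
    simp only [Nat.land_eq, Nat.testBit_and, Bool.and_eq_true]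
    exact ⟨⟨⟨hT 4 (by omega) 2 rfl, hP 1 (by omega) 4 (by omega) 2 (by decide +kernel)⟩,
      hP 3 (by omega) 4 (by omega) 1 (by decide +kernel)⟩, hP 2 (by omega) 4 (by omega) 2 (by decide +kernel)⟩)
  have h0 := forBits_sound h4 (q 0 (by omega)).val (by
    simp only [Nat.land_eq, Nat.testBit_and, Bool.and_eq_true]
    exact ⟨⟨⟨⟨hT 0 (by omega) 2 rfl, hP 1 (by omega) 0 (by omega) 2 (by decide +kernel)⟩,
      hP 3 (by omega) 0 (by omega) 2 (by decide +kernel)⟩, hP 2 (by omega) 0 (by omega) 1 (by decide +kernel)⟩,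
      hP 4 (by omega) 0 (by omega) 2 (by decide +kernel)⟩)
  have h5 := forBits_sound h0 (q 5 (by omega)).val (by
    simp only [Nat.land_eq, Nat.testBit_and, Bool.and_eq_true]
    exact ⟨⟨⟨⟨⟨hT 5 (by omega) 2 rfl, hP 1 (by omega) 5 (by omega) 2 (by decide +kernel)⟩,
      hP 3 (by omega) 5 (by omega) 2 (by decide +kernel)⟩, hP 2 (by omega) 5 (by omega) 2 (by decide +kernel)⟩,
      hP 4 (by omega) 5 (by omega) 1 (by decide +kernel)⟩, hP 0 (by omega) 5 (by omega) 2 (by decide +kernel)⟩)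
  rw [classOK_of_mem hσ (hr 0 (by omega)) (hr 2 (by omega)) (hr 4 (by omega)) (hr 5 (by omega)),
    Bool.not_true, Bool.false_or] at h5
  refine cls_of_leaf hσ ?_
  convert h5 using 2
  refine List.ext_getElem (by simp [imgs, rank_eq]) fun n hn1 hn2 => ?_
  simp only [List.length_cons, List.length_nil] at hn2
  interval_cases n <;> simp [imgs, q]

theorem gens_theta : allLt 6 (fun g => !(List.elem g [0, 2, 3, 4, 5]) || Nat.beq (Data.E6.fast.w g 71) 71) = true := by
  decide +kernel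

theorem exists_rep : ∀ (fuel : ℕ) (z : Rt chevE6), redOK fuel z.val = true →
    ∃ u ∈ C.WG, u θ = θ ∧ (u z).val ∈ [0, 1, 11, 46, 71]
  | 0, z, h => by simp [redOK] at h
  | fuel + 1, z, h => by
    rw [redOK, forceN_eq] at h
    set g := Nat.land (Nat.shiftRight nT (4 * z.val)) 15 with hg
    cases e : Nat.beq g 7
    · rw [e] at h
      simp only [cond_false, Bool.and_eq_true, forceN_eq] at h
      obtain ⟨h1, h2⟩ := h
      have hg6 : g < 6 := by
        have := List.elem_iff.1 h1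
        simp at this
        omega
      set i : Fin chevE6.rank := ⟨g, lt_of_lt_of_eq hg6 rank_eq.symm⟩
      have hw : ∀ x : Rt chevE6, (C.sref i x).val = Data.E6.fast.w g x.val := fun x => rfl
      have hs : C.sref i θ = θ := by
        refine Fin.ext ((hw θ).trans ?_)
        have := allLt_iff.1 gens_theta g hg6
        rw [h1, Bool.not_true, Bool.false_or] at this
        exact Nat.eq_of_beq_eq_true this
      obtain ⟨u, hu, huθ, hur⟩ := exists_rep fuel (C.sref i z) (by rw [hw]; exact h2)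
      exact ⟨u * C.sref i, mul_mem hu (Subgroup.subset_closure ⟨i, rfl⟩),
        by rw [Equiv.Perm.mul_apply, hs, huθ], by rw [Equiv.Perm.mul_apply]; exact hur⟩
    · rw [e] at h
      simp only [cond_true] at h
      exact ⟨1, one_mem _, rfl, List.elem_iff.1 h⟩

theorem conj_pow' {G : Type*} [Group G] (u a : G) (k : ℕ) : (u * a * u⁻¹) ^ k = u * a ^ k * u⁻¹ := conj_pow

/-- The classification. -/
theorem classify {σ : Equiv.Perm (Rt chevE6)} (hσ : σ ∈ C.WG) : Cls σ := by
  obtain ⟨u, hu, huθ, hur⟩ := exists_rep 30 (σ θ) (allLt_iff.1 red_all _ (val_lt _))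
  set τ := u * σ * u⁻¹ with hτdef
  have hτ : τ ∈ C.WG := mul_mem (mul_mem hu hσ) (inv_mem hu)
  have huinv : u⁻¹ θ = θ := by
    conv_lhs => rw [← huθ]
    simp
  have hτθ : τ θ = u (σ θ) := by rw [hτdef, Equiv.Perm.mul_apply, Equiv.Perm.mul_apply, huinv]
  have hs : search (τ θ).val = true := by
    rw [hτθ]
    simp only [List.mem_cons, List.not_mem_nil, or_false] at hur
    rcases hur with h | h | h | h | h <;> rw [h]
    exacts [search_0, search_1, search_11, search_46, search_71]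
  rcases cls_of_search hτ hs with ⟨y, hy⟩ | ⟨k, hk, h⟩ | h
  · refine Or.inl ⟨u⁻¹ y, ⟨fun k hk => ?_⟩⟩
    rw [← hy.prof k hk, hτdef, conj_pow', ← B2_apply hu, Equiv.Perm.mul_apply, Equiv.Perm.mul_apply]
    simp
  · rw [hτdef, conj_pow', conj_eq_one_iff] at h
    exact Or.inr (Or.inl ⟨k, hk, h⟩)
  · refine Or.inr (Or.inr ?_)
    have hU : mat C u * mat C u⁻¹ = 1 := by rw [← mat_mul C hu, mul_inv_cancel, mat_one]
    have hU' : mat C u⁻¹ * mat C u = 1 := by rw [← mat_mul C (inv_mem hu), inv_mul_cancel, mat_one]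
    have e : mat C σ = mat C u⁻¹ * mat C τ * mat C u := by
      rw [← mat_mul C (inv_mem hu), ← mat_mul C (mul_mem (inv_mem hu) hτ), hτdef]
      congr 1
      group
    have hk : ∀ k, mat C σ ^ k = mat C u⁻¹ * mat C τ ^ k * mat C u := by
      intro k
      induction k with
      | zero => rw [pow_zero, pow_zero, Matrix.mul_one, hU']
      | succ k ih =>
        rw [pow_succ, ih, e, pow_succ]
        simp only [Matrix.mul_assoc]
        rw [← Matrix.mul_assoc (mat C u) (mat C u⁻¹), hU, Matrix.one_mul]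
    rw [hk 6, hk 4, hk 5, hk 2, e, ← Matrix.add_mul, ← Matrix.mul_add, ← Matrix.add_mul,
      ← Matrix.mul_add, h, Matrix.mul_add, Matrix.mul_add, Matrix.add_mul, Matrix.add_mul, Matrix.mul_one, hU']

end Cfsg.Agent.Lib.ChevStructure.RegTorusSix
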